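import Groth.Agent.RelPCLib.Easy

/-!
# Finite algebras and relative pseudo-coherence
-/

set_option autoImplicit false
set_option linter.style.haveILetI false

universe u

open CategoryTheory CategoryTheory.Limits

attribute [local instance] HasDerivedCategory.standard

namespace Groth.Agent.RelPCLib

variable {P B : Type u} [CommRing P] [CommRing B] [Algebra P B]

/-- Integral elements lie in the image of a finite free algebra. -/
theorem exists_finFree_range {k : ℕ} (b : Fin k → B) (hb : ∀ i, IsIntegral P (b i)) :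
    ∃ (C : Type u) (_ : CommRing C) (_ : Algebra P C) (_ : Module.Finite P C) (_ : Module.Free P C)
      (γ : C →ₐ[P] B), ∀ i, b i ∈ γ.range := by
  induction k with
  | zero => exact ⟨P, inferInstance, inferInstance, inferInstance, inferInstance, Algebra.ofId P B,
      fun i => i.elim0⟩
  | succ k ih =>
    obtain ⟨C, _, _, _, _, γ, hγ⟩ := ih (fun i => b i.succ) (fun i => hb i.succ)
    obtain ⟨p, hp, hp0⟩ := hb 0
    let q : Polynomial C := p.map (algebraMap P C)
    have hq : q.Monic := hp.map _
    haveI := hq.free_adjoinRoot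
    haveI := hq.finite_adjoinRoot
    haveI : Module.Finite P (AdjoinRoot q) := Module.Finite.trans C _
    haveI : Module.Free P (AdjoinRoot q) := Module.Free.trans (S := C)
    have h0 : q.eval₂ (γ : C →+* B) (b 0) = 0 := by
      rw [Polynomial.eval₂_map]
      have hc : (γ : C →+* B).comp (algebraMap P C) = algebraMap P B := γ.comp_algebraMap
      rw [hc, hp0]
    refine ⟨AdjoinRoot q, inferInstance, inferInstance, inferInstance, inferInstance,
      AdjoinRoot.liftAlgHom q γ (b 0) h0, ?_⟩
    refine Fin.cases ?_ fun i => ?_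
    · exact ⟨AdjoinRoot.root q, AdjoinRoot.lift_root h0⟩
    · obtain ⟨c, hc⟩ := hγ i
      exact ⟨AdjoinRoot.of q c, (AdjoinRoot.lift_of h0).trans hc⟩

/-- A finite algebra is a quotient of a finite free one. -/
theorem exists_finFree (P B : Type u) [CommRing P] [CommRing B] [Algebra P B] [Module.Finite P B] :
    ∃ (C : Type u) (_ : CommRing C) (_ : Algebra P C) (_ : Module.Finite P C) (_ : Module.Free P C)
      (γ : C →ₐ[P] B), Function.Surjective γ := by
  obtain ⟨k, b, hb⟩ := Module.Finite.exists_fin (R := P) (M := B)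
  obtain ⟨C, hC, hA, hF, hfr, γ, hγ⟩ :=
    exists_finFree_range (P := P) b fun i => IsIntegral.of_finite P (b i)
  refine ⟨C, hC, hA, hF, hfr, γ, fun x => ?_⟩
  have hle : Submodule.span P (Set.range b) ≤ Subalgebra.toSubmodule γ.range :=
    Submodule.span_le.2 (by rintro _ ⟨i, rfl⟩; exact hγ i)
  exact hle (hb.symm ▸ Submodule.mem_top : x ∈ Submodule.span P (Set.range b))

/-- For a finite algebra, pseudo-coherence over the base is tested by any presentation. -/
theorem pv_finite_algebra [Module.Finite P B] {τ : Type} [Finite τ]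
    (ψ : MvPolynomial τ P →ₐ[P] B) (K : Dual.D B) (m : ℤ) :
    PV ψ.toRingHom m K ↔ PV (algebraMap P B) m K := by
  obtain ⟨C, _, _, _, _, γ, hγ⟩ := exists_finFree P B
  choose c hc using fun j => hγ (ψ (MvPolynomial.X j))
  letI : Algebra (MvPolynomial τ P) (MvPolynomial τ C) := MvPolynomial.algebraMvPolynomial
  haveI : IsScalarTower P (MvPolynomial τ P) (MvPolynomial τ C) :=
    IsScalarTower.of_algebraMap_eq fun r => (MvPolynomial.map_C _ r).symm
  haveI : Algebra.IsPushout P (MvPolynomial τ P) C (MvPolynomial τ C) := inferInstance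
  have h1 : PH (algebraMap (MvPolynomial τ P) (MvPolynomial τ C)) :=
    ph_of_isPushout (P := P) (Q := C) ph_of_finite_free
  have h2 := h1.comp (ph_aeval c)
  have e1 : γ.toRingHom.comp ((MvPolynomial.aeval c : MvPolynomial τ C →ₐ[C] C).toRingHom.comp
      (algebraMap (MvPolynomial τ P) (MvPolynomial τ C))) = ψ.toRingHom := by
    rw [show algebraMap (MvPolynomial τ P) (MvPolynomial τ C) = MvPolynomial.map (algebraMap P C) from rfl]
    refine MvPolynomial.ringHom_ext (fun r => ?_) (fun j => ?_)
    · simp
    · simp [hc]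
  have e2 : γ.toRingHom.comp (algebraMap P C) = algebraMap P B := γ.comp_algebraMap
  rw [← e1, pv_comp h2, ← e2, pv_comp ph_of_finite_free]

/-- Relative pseudo-coherence and finite maps. -/
theorem isRel_restrict_iff {R A B : Type u} [CommRing R] [CommRing A] [CommRing B]
    [Algebra R A] [Algebra A B] [Algebra R B] [IsScalarTower R A B] [Algebra.FiniteType R A]
    [Module.Finite A B] (K : Dual.D B) (m : ℤ) :
    DerCA.IsRelPseudoCoherent R B m K ↔
      DerCA.IsRelPseudoCoherent R A m ((DRing.restrictD (algebraMap A B)).obj K) := by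
  obtain ⟨n, α, hα⟩ := exists_pres R A
  let f : MvPolynomial (Fin n) R →+* B := (algebraMap A B).comp α.toRingHom
  letI : Algebra (MvPolynomial (Fin n) R) B := f.toAlgebra
  haveI : IsScalarTower R (MvPolynomial (Fin n) R) B :=
    IsScalarTower.of_algebraMap_eq fun r => by
      change algebraMap R B r = algebraMap A B (α (MvPolynomial.C r))
      rw [IsScalarTower.algebraMap_apply R A B, ← MvPolynomial.algebraMap_eq, α.commutes]
  haveI : Module.Finite (MvPolynomial (Fin n) R) B := by
    letI : Algebra (MvPolynomial (Fin n) R) A := α.toRingHom.toAlgebra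
    haveI : IsScalarTower (MvPolynomial (Fin n) R) A B := IsScalarTower.of_algebraMap_eq' rfl
    haveI : Module.Finite (MvPolynomial (Fin n) R) A :=
      Module.Finite.of_surjective (Algebra.linearMap (MvPolynomial (Fin n) R) A) hα
    exact Module.Finite.trans A B
  obtain ⟨k, b, hb⟩ := Algebra.FiniteType.iff_quotient_mvPolynomial''.1
    (inferInstance : Algebra.FiniteType (MvPolynomial (Fin n) R) B)
  let e := MvPolynomial.sumAlgEquiv R (Fin k) (Fin n)
  let β : MvPolynomial (Fin k ⊕ Fin n) R →ₐ[R] B := (b.restrictScalars R).comp e.toAlgHom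
  have hβ : Function.Surjective β := hb.comp e.surjective
  rw [isRel_iff α hα, isRel_iff β hβ]
  have e1 : β.toRingHom = b.toRingHom.comp e.toRingEquiv.toRingHom := rfl
  rw [e1, pv_comp (ph_of_bijective _ e.bijective), pv_finite_algebra b]
  obtain ⟨i⟩ := nonempty_restrictD_comp α.toRingHom (algebraMap A B) K
  exact ⟨fun h => DRingLib.isPseudoCoherent_of_iso i.symm h,
    fun h => DRingLib.isPseudoCoherent_of_iso i h⟩

end Groth.Agent.RelPCLib

namespace Groth.Agent.RelPCLib

/-- Relative pseudo-coherence over a relatively pseudo-coherent intermediate algebra. -/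
theorem isRel_intermediate_iff {R A B : Type u} [CommRing R] [CommRing A] [CommRing B]
    [Algebra R A] [Algebra A B] [Algebra R B] [IsScalarTower R A B] [Algebra.FiniteType R A]
    [Algebra.FiniteType A B] (hA : DerCA.IsRelPseudoCoherentModuleAll R A A)
    (K : Dual.D B) (m : ℤ) :
    DerCA.IsRelPseudoCoherent A B m K ↔ DerCA.IsRelPseudoCoherent R B m K := by
  obtain ⟨n, α, hα⟩ := exists_pres R A
  have hph : PH α.toRingHom := fun i => (isRel_iff α hα _ i).1 (hA i)
  obtain ⟨k, β, hβ⟩ := exists_pres A B
  letI : Algebra (MvPolynomial (Fin n) R) A := α.toRingHom.toAlgebra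
  letI : Algebra (MvPolynomial (Fin k) (MvPolynomial (Fin n) R)) (MvPolynomial (Fin k) A) :=
    MvPolynomial.algebraMvPolynomial
  haveI : IsScalarTower (MvPolynomial (Fin n) R) (MvPolynomial (Fin k) (MvPolynomial (Fin n) R))
      (MvPolynomial (Fin k) A) :=
    IsScalarTower.of_algebraMap_eq fun r => (MvPolynomial.map_C _ r).symm
  haveI : Algebra.IsPushout (MvPolynomial (Fin n) R) (MvPolynomial (Fin k) (MvPolynomial (Fin n) R)) A
      (MvPolynomial (Fin k) A) := inferInstance
  have h1 : PH (algebraMap (MvPolynomial (Fin k) (MvPolynomial (Fin n) R)) (MvPolynomial (Fin k) A)) :=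
    ph_of_isPushout (P := MvPolynomial (Fin n) R) (Q := A) hph
  let e := MvPolynomial.sumAlgEquiv R (Fin k) (Fin n)
  let β' : MvPolynomial (Fin k ⊕ Fin n) R →ₐ[R] B :=
    (β.restrictScalars R).comp ((MvPolynomial.mapAlgHom α).comp e.toAlgHom)
  have hβ' : Function.Surjective β' :=
    hβ.comp ((MvPolynomial.map_surjective α.toRingHom hα).comp e.surjective)
  rw [isRel_iff β hβ, isRel_iff β' hβ']
  have e1 : β'.toRingHom = (β.toRingHom.comp
      (algebraMap (MvPolynomial (Fin k) (MvPolynomial (Fin n) R)) (MvPolynomial (Fin k) A))).comp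
      e.toRingEquiv.toRingHom := rfl
  rw [e1, pv_comp (ph_of_bijective _ e.bijective), pv_comp h1]

end Groth.Agent.RelPCLib
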