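import Groth.Agent.RelPCLib.LBC
import Groth.Agent.RelPCLib.Finite

/-!
# Relative pseudo-coherence and arbitrary models of principal localizations
-/

set_option autoImplicit false
set_option linter.style.haveILetI false

universe u

open CategoryTheory CategoryTheory.Limits

attribute [local instance] HasDerivedCategory.standard

namespace Groth.Agent.RelPCLib

/-- Flat base change along a relatively pseudo-coherent algebra, computed termwise. -/
theorem isRel_flat_cx {R A B : Type u} [CommRing R] [CommRing A] [CommRing B]
    [Algebra R A] [Algebra A B] [Algebra R B] [IsScalarTower R A B] [Algebra.FiniteType R A]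
    [Algebra.FiniteType A B] [Module.Flat A B] (hB : DerCA.IsRelPseudoCoherentModuleAll A B B)
    (K : DRing.Cx A) (m : ℤ) (h : DerCA.IsRelPseudoCoherent R A m (DRing.toD K)) :
    DerCA.IsRelPseudoCoherent R B m
      (DerivedCategory.Q.obj ((DRingLib.extCx (algebraMap A B)).obj K)) := by
  obtain ⟨G, -, ⟨eG⟩, k, β, hβ, hv⟩ := exists_rep_isRel hB (DRing.toD K) m h
  obtain ⟨e⟩ := DRingLib.nonempty_extCx_iso (algebraMap A B)
    (RingHom.flat_algebraMap_iff.2 inferInstance) eG
  exact ⟨k, β, hβ, PV.of_iso e hv⟩

theorem finiteType_away {A T : Type u} [CommRing A] [CommRing T] [Algebra A T] (g : A)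
    [IsLocalization.Away g T] : Algebra.FiniteType A T :=
  IsLocalization.finiteType_of_monoid_fg (Submonoid.powers g) T

/-- A principal localization is relatively pseudo-coherent. -/
theorem isRelModule_away {A T : Type u} [CommRing A] [CommRing T] [Algebra A T] (g : A)
    [IsLocalization.Away g T] : DerCA.IsRelPseudoCoherentModuleAll A T T := by
  let e : MvPolynomial (Fin 1) A ≃ₐ[A] Polynomial A := MvPolynomial.uniqueAlgEquiv A (Fin 1)
  let E : Localization.Away g ≃ₐ[A] T := IsLocalization.algEquiv (Submonoid.powers g) _ _
  let f : MvPolynomial (Fin 1) A →+* T :=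
    E.toRingEquiv.toRingHom.comp ((awayPres g).comp e.toRingEquiv.toRingHom)
  let p : MvPolynomial (Fin 1) A →ₐ[A] T :=
    { f with
      commutes' := fun r => by
        change E (awayPres g (e (algebraMap A _ r))) = _
        rw [e.commutes, Polynomial.algebraMap_eq, awayPres_C, E.commutes] }
  have hp : Function.Surjective p := E.surjective.comp ((awayPres_surjective g).comp e.surjective)
  intro n
  exact (isRel_iff p hp _ n).2
    ((((ph_of_bijective _ e.bijective).comp (ph_awayPres g)).comp (ph_of_bijective _ E.bijective)) n)

/-- Localization preserves relative pseudo-coherence, for any model. -/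
theorem isRel_away_of' {R A T : Type u} [CommRing R] [CommRing A] [CommRing T] [Algebra R A]
    [Algebra A T] [Algebra R T] [IsScalarTower R A T] [Algebra.FiniteType R A] (g : A)
    [IsLocalization.Away g T] (K : DRing.Cx A) (m : ℤ)
    (h : DerCA.IsRelPseudoCoherent R A m (DRing.toD K)) :
    DerCA.IsRelPseudoCoherent R T m
      (DerivedCategory.Q.obj ((DRingLib.extCx (algebraMap A T)).obj K)) := by
  haveI := finiteType_away (T := T) g
  haveI : Module.Flat A T := IsLocalization.flat T (Submonoid.powers g)
  exact isRel_flat_cx (isRelModule_away g) K m h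

/-- Change of model. -/
theorem isRel_away_model {R A T : Type u} [CommRing R] [CommRing A] [CommRing T] [Algebra R A]
    [Algebra A T] [Algebra R T] [IsScalarTower R A T] [Algebra.FiniteType R A] (g : A)
    [IsLocalization.Away g T] (K : DRing.Cx A) (m : ℤ)
    (h : DerCA.IsRelPseudoCoherent R T m
      (DerivedCategory.Q.obj ((DRingLib.extCx (algebraMap A T)).obj K))) :
    DerCA.IsRelPseudoCoherent R (Localization.Away g) m
      (DerivedCategory.Q.obj ((DRingLib.extCx (algebraMap A (Localization.Away g))).obj K)) := by
  let E : T ≃ₐ[A] Localization.Away g := IsLocalization.algEquiv (Submonoid.powers g) _ _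
  letI : Algebra T (Localization.Away g) := E.toRingEquiv.toRingHom.toAlgebra
  haveI : IsScalarTower A T (Localization.Away g) :=
    IsScalarTower.of_algebraMap_eq fun a => (E.commutes a).symm
  haveI : IsScalarTower R T (Localization.Away g) := IsScalarTower.of_algebraMap_eq fun r => by
    rw [IsScalarTower.algebraMap_apply R A T, IsScalarTower.algebraMap_apply R A (Localization.Away g)]
    exact (E.commutes (algebraMap R A r)).symm
  haveI := finiteType_away (T := T) g
  haveI : Algebra.FiniteType R T := Algebra.FiniteType.trans (S := A) inferInstance inferInstance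
  haveI : IsLocalization.Away (1 : T) (Localization.Away g) :=
    IsLocalization.away_of_isUnit_of_bijective _ isUnit_one E.bijective
  have := isRel_away_of' (R := R) (T := Localization.Away g) (1 : T)
    ((DRingLib.extCx (algebraMap A T)).obj K) m h
  obtain ⟨k, β, hβ, hv⟩ := this
  have hc : (algebraMap T (Localization.Away g)).comp (algebraMap A T) =
      algebraMap A (Localization.Away g) := (IsScalarTower.algebraMap_eq A T (Localization.Away g)).symm
  let c := eqToIso (congrArg ModuleCat.extendScalars.{u, u, u} hc.symm) ≪≫
    ModuleCat.extendScalarsComp (algebraMap A T) (algebraMap T (Localization.Away g))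
  exact ⟨k, β, hβ, PV.of_iso (DerivedCategory.Q.mapIso (HomologicalComplex.Hom.isoOfComponents
    (C₁ := (DRingLib.extCx (algebraMap A (Localization.Away g))).obj K)
    (C₂ := (DRingLib.extCx (algebraMap T (Localization.Away g))).obj
      ((DRingLib.extCx (algebraMap A T)).obj K))
    (fun i => c.app (K.X i)) fun i j _ => (c.hom.naturality (K.d i j)).symm).symm) hv⟩

/-- Relative pseudo-coherence is Zariski local, for any models. -/
theorem isRel_of_away' {R A : Type u} [CommRing R] [CommRing A] [Algebra R A]
    [Algebra.FiniteType R A] (K : DRing.Cx A) (m : ℤ) {r : ℕ} (g : Fin r → A)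
    (hg : Ideal.span (Set.range g) = ⊤) (T : Fin r → Type u) [∀ i, CommRing (T i)]
    [∀ i, Algebra A (T i)] [∀ i, Algebra R (T i)] [∀ i, IsScalarTower R A (T i)]
    [∀ i, IsLocalization.Away (g i) (T i)]
    (h : ∀ i, DerCA.IsRelPseudoCoherent R (T i) m
      (DerivedCategory.Q.obj ((DRingLib.extCx (algebraMap A (T i))).obj K))) :
    DerCA.IsRelPseudoCoherent R A m (DRing.toD K) :=
  isRel_of_away K m g hg fun i => isRel_away_model (g i) K m (h i)

end Groth.Agent.RelPCLib
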