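import Groth.Agent.RelPCLib.Indep

/-!
# First properties of relative pseudo-coherence
-/

set_option autoImplicit false
set_option linter.style.haveILetI false

universe u

open CategoryTheory CategoryTheory.Limits CategoryTheory.Pretriangulated

attribute [local instance] HasDerivedCategory.standard

namespace Groth.Agent.RelPCLib

variable {P A : Type u} [CommRing P] [CommRing A]

theorem pv_module_iff (φ : P →+* A) (m : ℤ) (M : ModuleCat.{u} A) :
    PV φ m ((DerivedCategory.singleFunctor (ModuleCat.{u} A) 0).obj M) ↔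
      DRing.IsPseudoCoherentModule P m ((ModuleCat.restrictScalars.{u} φ).obj M) :=
  ⟨DRingLib.isPseudoCoherent_of_iso (restrictInD φ M),
    DRingLib.isPseudoCoherent_of_iso (restrictInD φ M).symm⟩

theorem pv_tri (φ : P →+* A) (m : ℤ) (T : Triangle (Dual.D A)) (hT : T ∈ distinguishedTriangles) :
    (PV φ (m + 1) T.obj₁ → PV φ m T.obj₂ → PV φ m T.obj₃) ∧
      (PV φ m T.obj₁ → PV φ m T.obj₃ → PV φ m T.obj₂) ∧
      (PV φ (m + 1) T.obj₂ → PV φ m T.obj₃ → PV φ (m + 1) T.obj₁) :=
  ⟨DRingLib.isPseudoCoherent_obj₃ _ ((DRing.restrictD φ).map_distinguished T hT) m,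
    DRingLib.isPseudoCoherent_obj₂ _ ((DRing.restrictD φ).map_distinguished T hT) m,
    DRingLib.isPseudoCoherent_obj₁ _ ((DRing.restrictD φ).map_distinguished T hT) m⟩

theorem pv_biprod (φ : P →+* A) (m : ℤ) (K L : Dual.D A) [HasBinaryBiproduct K L]
    (h : PV φ m (K ⊞ L)) : PV φ m K ∧ PV φ m L := by
  haveI : PreservesBinaryBiproducts (DRing.restrictD φ) :=
    preservesBinaryBiproducts_of_preservesBiproducts _
  exact DRingLib.isPseudoCoherent_of_biprod
    (DRingLib.isPseudoCoherent_of_iso ((DRing.restrictD φ).mapBiprod K L) h)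

theorem pv_of_terms (φ : P →+* A) (m : ℤ) (K : DRing.Cx A) (b : ℤ) (hb : DRing.VanishesAbove K b)
    (h : ∀ i, PV φ (m - i) (Dual.inD A (K.X i))) : PV φ m (DRing.toD K) := by
  refine DRingLib.isPseudoCoherent_of_iso
    ((ModuleCat.restrictScalars.{u} φ).mapDerivedCategoryFactors.app K).symm ?_
  refine DRingLib.isPseudoCoherent_of_terms m (b + 1 - m).toNat _ (fun i hi => ?_) fun i =>
    (pv_module_iff φ (m - i) (K.X i)).1 (h i)
  exact (ModuleCat.restrictScalars.{u} φ).map_isZero
    (hb i (by have := Int.self_le_toNat (b + 1 - m); omega))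

/-- Cohomology commutes with restriction. -/
noncomputable def hnIso (φ : P →+* A) (K : Dual.D A) (i : ℤ) :
    (DRingLib.Hn P i).obj ((DRing.restrictD φ).obj K) ≅
      (ModuleCat.restrictScalars.{u} φ).obj ((DRingLib.Hn A i).obj K) :=
  letI := φ.toAlgebra
  TwoTermLib.Restr.HnIso K i

theorem isZero_restrict_iff (φ : P →+* A) (K : Dual.D A) (i : ℤ) :
    IsZero ((DRingLib.Hn P i).obj ((DRing.restrictD φ).obj K)) ↔ Subsingleton (Dual.HD A K i) :=
  ⟨fun h => ModuleCat.subsingleton_of_isZero
      ((letI := φ.toAlgebra; TwoTermLib.Restr.isZero_Hn_iff (A := P) K i).1 h),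
    fun h => (letI := φ.toAlgebra; TwoTermLib.Restr.isZero_Hn_iff (A := P) K i).2
      (haveI : Subsingleton ((DRingLib.Hn A i).obj K) := h; ModuleCat.isZero_of_subsingleton _)⟩

theorem pv_of_homology (φ : P →+* A) (m : ℤ) (K : Dual.D A) (b : ℤ)
    (hb : ∀ i, b < i → Subsingleton (Dual.HD A K i))
    (h : ∀ i, PV φ (m - i) (Dual.inD A (Dual.HD A K i))) : PV φ m K := by
  refine DRingLib.isPseudoCoherent_of_homology m (b + 1 - m).toNat _ (fun i hi => ?_) fun i => ?_
  · exact (isZero_restrict_iff φ K i).2 (hb i (by have := Int.self_le_toNat (b + 1 - m); omega))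
  · exact DRingLib.isPseudoCoherentModule_of_equiv (hnIso φ K i).toLinearEquiv.symm
      ((pv_module_iff φ (m - i) _).1 (h i))

theorem finite_restrict_iff (φ : P →+* A) (hφ : Function.Surjective φ) (M : ModuleCat.{u} A) :
    Module.Finite P ((ModuleCat.restrictScalars.{u} φ).obj M) ↔ Module.Finite A M := by
  letI : Algebra P A := φ.toAlgebra
  letI : Module P M := Module.compHom M φ
  haveI : IsScalarTower P A M := IsScalarTower.of_algebraMap_smul fun _ _ => rfl
  haveI : Module.Finite P A := Module.Finite.of_surjective (Algebra.linearMap P A) hφ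
  exact ⟨fun h => by
      haveI : Module.Finite P M := h
      exact Module.Finite.of_restrictScalars_finite P A M,
    fun h => (Module.Finite.trans A M : Module.Finite P M)⟩

theorem pv_finite (φ : P →+* A) (hφ : Function.Surjective φ) (m : ℤ) (K : Dual.D A)
    (h : PV φ m K) (hz : ∀ i, m < i → Subsingleton (Dual.HD A K i)) :
    Module.Finite A (Dual.HD A K m) := by
  refine (finite_restrict_iff φ hφ ((DRingLib.Hn A m).obj K)).1 ?_
  haveI := DRingLib.finite_of_isPseudoCoherent h fun i hi => (isZero_restrict_iff φ K i).2 (hz i hi)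
  exact Module.Finite.equiv (hnIso φ K m).toLinearEquiv

end Groth.Agent.RelPCLib

namespace Groth.Agent.RelPCLib

variable {P : Type u} [CommRing P]

theorem exists_bound_of_pc {K : Dual.D P} {m : ℤ} (h : DRing.IsPseudoCoherent P m K) :
    ∃ b : ℤ, ∀ i, b < i → IsZero ((DRingLib.Hn P i).obj K) := by
  obtain ⟨E, α, hE, hα⟩ := DRingLib.isPseudoCoherent_iff.1 h
  obtain ⟨b, hb⟩ := hE.bddAbove
  refine ⟨max b m, fun i hi => ?_⟩
  have := hα.1 i (by omega)
  exact (DRingLib.isZero_Hn_Q E i (hb i (by omega))).of_iso (asIso ((DRingLib.Hn P i).map α)).symm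

theorem finite_of_pc_noetherian [IsNoetherianRing P] {K : Dual.D P} {m : ℤ}
    (h : DRing.IsPseudoCoherent P m K) (i : ℤ) (hi : m ≤ i) :
    Module.Finite P ((DRingLib.Hn P i).obj K) := by
  obtain ⟨E, α, hE, hα⟩ := DRingLib.isPseudoCoherent_iff.1 h
  have hfin : Module.Finite P ((DRingLib.Hn P i).obj (DerivedCategory.Q.obj E)) := by
    obtain ⟨a, b, -, hf⟩ := hE
    haveI := (hf i).1
    exact DRingLib.finite_Hn_Q (DRingLib.homology_finite_of_cycles E i inferInstance)
  have hepi : Epi ((DRingLib.Hn P i).map α) := by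
    rcases hi.eq_or_lt with rfl | h'
    · exact hα.2
    · have := hα.1 i h'
      infer_instance
  exact Module.Finite.of_surjective ((DRingLib.Hn P i).map α).hom
    ((ModuleCat.epi_iff_surjective _).1 hepi)

end Groth.Agent.RelPCLib
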