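import Groth.Agent.TorShiftLib.Basic

/-!
# Base change of acyclic complexes with `Tor`-acyclic terms
-/

set_option autoImplicit false
set_option linter.style.haveILetI false

universe u

open CategoryTheory CategoryTheory.Limits HomologicalComplex
open scoped TensorProduct
open MonoidalCategory (tensoringLeft)

namespace Groth.Agent.RelPCLib

variable {R : Type u} [CommRing R] (N : ModuleCat.{u} R)

/-- Higher `Tor` groups against `N` vanish. -/
def TA (M : ModuleCat.{u} R) : Prop :=
  ∀ p : ℕ, 0 < p → IsZero (((CategoryTheory.Tor (ModuleCat.{u} R) p).obj M).obj N)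

variable {N}

theorem TA.of_iso {M M' : ModuleCat.{u} R} (e : M ≅ M') (h : TA N M) : TA N M' := fun p hp =>
  (h p hp).of_iso (((CategoryTheory.Tor (ModuleCat.{u} R) p).mapIso e).app N).symm

theorem ta_of_flat (M : ModuleCat.{u} R) [Module.Flat R M] : TA N M :=
  fun _ hp => TorSESLib.isZero_tor_of_flat N M hp

theorem ta_middle {S : ShortComplex (ModuleCat.{u} R)} (hS : S.ShortExact) (h₁ : TA N S.X₁)
    (h₃ : TA N S.X₃) : TA N S.X₂ :=
  fun p hp => TorSESLib.isZero_tor_middle S N hS p (h₁ p hp) (h₃ p hp)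

theorem ta_left {S : ShortComplex (ModuleCat.{u} R)} (hS : S.ShortExact) (h₂ : TA N S.X₂)
    (h₃ : TA N S.X₃) : TA N S.X₁ :=
  fun p hp => TorSESLib.isZero_tor_left S N hS p (h₂ p hp) (h₃ (p + 1) (by omega))

theorem injective_rTensor_of_ta {S : ShortComplex (ModuleCat.{u} R)} (hS : S.ShortExact)
    (h₃ : TA N S.X₃) : Function.Injective (S.f.hom.rTensor (N : Type u)) := by
  let P := projectiveResolution N
  have hC := TorRegLib.cx_shortExact P S hS
  have hz : IsZero ((TorRegLib.cx P S).X₃.homology 1) :=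
    (h₃ 1 one_pos).of_iso (P.isoLeftDerivedObj _ 1).symm
  haveI : Mono (homologyMap (TorRegLib.Gmap P S.f) 0) :=
    (hC.homology_exact₁ 1 0 (by simp)).mono_g (hz.eq_of_src _ _)
  have h : ((tensoringLeft (ModuleCat.{u} R)).map S.f).app N =
      (TorShiftLib.h0 P S.X₁).inv ≫ homologyMap (TorRegLib.Gmap P S.f) 0 ≫ (TorShiftLib.h0 P S.X₂).hom := by
    rw [TorShiftLib.h0_naturality P S.f, Iso.inv_hom_id_assoc]
  haveI : Mono (((tensoringLeft (ModuleCat.{u} R)).map S.f).app N) := by
    rw [h]; exact mono_comp _ _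
  exact (ModuleCat.mono_iff_injective (((tensoringLeft (ModuleCat.{u} R)).map S.f).app N)).1 inferInstance

/-- An acyclic bounded above complex with `Tor`-acyclic terms stays exact after tensoring. -/
theorem exact_rTensor_of_ta (C : CochainComplex (ModuleCat.{u} R) ℤ) (hC : ∀ i, C.ExactAt i) (c : ℤ)
    (hc : ∀ i, c < i → IsZero (C.X i)) (hta : ∀ i, TA N (C.X i)) (i : ℤ) :
    Function.Exact ((C.d (i - 1) i).hom.rTensor (N : Type u))
      ((C.d i (i + 1)).hom.rTensor (N : Type u)) := by
  have hex : ∀ a b e : ℤ, a + 1 = b → b + 1 = e → Function.Exact (C.d a b).hom (C.d b e).hom := by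
    intro a b e ha he
    have := (C.exactAt_iff' a b e (by simp; omega) (by simp; omega)).1 (hC b)
    exact (ShortComplex.ShortExact.moduleCat_exact_iff_function_exact _).1 this
  let p : ∀ a : ℤ, (C.X a : Type u) →ₗ[R] LinearMap.ker (C.d (a + 1) (a + 1 + 1)).hom := fun a =>
    LinearMap.codRestrict _ (C.d a (a + 1)).hom fun x =>
      (hex a (a + 1) (a + 1 + 1) rfl rfl).apply_apply_eq_zero x
  let S : ℤ → ShortComplex (ModuleCat.{u} R) := fun a => ShortComplex.mk
    (ModuleCat.ofHom (LinearMap.ker (C.d a (a + 1)).hom).subtype) (ModuleCat.ofHom (p a))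
    (ModuleCat.hom_ext (LinearMap.ext fun x => Subtype.ext x.2))
  have hp : ∀ a, Function.Surjective (p a) := fun a x => by
    obtain ⟨y, hy⟩ := (hex a (a + 1) (a + 1 + 1) rfl rfl _).1 x.2
    exact ⟨y, Subtype.ext hy⟩
  have hS : ∀ a, (S a).ShortExact := fun a =>
    { exact := (ShortComplex.moduleCat_exact_iff _).2 fun x hx => ⟨⟨x, congrArg Subtype.val hx⟩, rfl⟩
      mono_f := (ModuleCat.mono_iff_injective _).2 Subtype.val_injective
      epi_g := (ModuleCat.epi_iff_surjective _).2 (hp a) }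
  have hZ : ∀ (k : ℕ) (a : ℤ), c + 1 - a ≤ k → TA N (S a).X₁ := by
    intro k
    induction k with
    | zero =>
      intro a ha
      haveI : Subsingleton (C.X a) := ModuleCat.subsingleton_of_isZero (hc a (by omega))
      haveI : Module.Flat R (S a).X₁ := inferInstanceAs (Module.Flat R (LinearMap.ker (C.d a (a + 1)).hom))
      exact ta_of_flat _
    | succ k ih => exact fun a ha => ta_left (hS a) (hta a) (ih (a + 1) (by push_cast at ha ⊢; omega))
  have hinj : ∀ a, Function.Injective ((LinearMap.ker (C.d a (a + 1)).hom).subtype.rTensor (N : Type u)) :=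
    fun a => injective_rTensor_of_ta (hS a) (hZ (c + 1 - (a + 1)).toNat (a + 1) (by omega))
  obtain ⟨a, rfl⟩ : ∃ a, a + 1 = i := ⟨i - 1, sub_add_cancel i 1⟩
  rw [show a + 1 - 1 = a by omega]
  have h1 : (C.d a (a + 1)).hom =
      (LinearMap.ker (C.d (a + 1) (a + 1 + 1)).hom).subtype ∘ₗ p a := rfl
  have h2 : (C.d (a + 1) (a + 1 + 1)).hom =
      (LinearMap.ker (C.d (a + 1 + 1) (a + 1 + 1 + 1)).hom).subtype ∘ₗ p (a + 1) := rfl
  have he : Function.Exact ((LinearMap.ker (C.d (a + 1) (a + 1 + 1)).hom).subtype.rTensor (N : Type u))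
      ((p (a + 1)).rTensor (N : Type u)) :=
    rTensor_exact (N : Type u)
      ((ShortComplex.ShortExact.moduleCat_exact_iff_function_exact (S (a + 1))).1 (hS (a + 1)).exact)
      (hp (a + 1))
  intro x
  rw [h2, LinearMap.rTensor_comp, LinearMap.comp_apply,
    map_eq_zero_iff _ (hinj (a + 1 + 1)), he x, h1, LinearMap.rTensor_comp, LinearMap.coe_comp,
    Set.range_comp, (LinearMap.rTensor_surjective (N : Type u) (hp a)).range_eq, Set.image_univ]

end Groth.Agent.RelPCLib
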