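import Groth.Agent.RelPCLib.Local
import Groth.Agent.RelPCLib.TorAcyclic

/-!
# Tor-independent base change and relative pseudo-coherence
-/

set_option autoImplicit false
set_option linter.style.haveILetI false

universe u

open CategoryTheory CategoryTheory.Limits HomologicalComplex
open CochainComplex (mappingCone)
open scoped TensorProduct

attribute [local instance] HasDerivedCategory.standard

namespace Groth.Agent.RelPCLib

variable {R : Type u} [CommRing R]

theorem ta_flat_tensor {N : ModuleCat.{u} R} (F : Type u) [AddCommGroup F] [Module R F] [Module.Flat R F]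
    (M : Type u) [AddCommGroup M] [Module R M] (h : TA N (ModuleCat.of R M)) :
    TA N (ModuleCat.of R (F ⊗[R] M)) := by
  intro p hp
  obtain ⟨q, rfl⟩ : ∃ q, p = q + 1 := ⟨p - 1, by omega⟩
  let P := projectiveResolution N
  let G := TorRegLib.G P
  have h1 : (G (ModuleCat.of R M)).ExactAt (q + 1) :=
    ((G (ModuleCat.of R M)).exactAt_iff_isZero_homology _).2
      ((h (q + 1) hp).of_iso (P.isoLeftDerivedObj _ (q + 1)).symm)
  suffices h2 : (G (ModuleCat.of R (F ⊗[R] M))).ExactAt (q + 1) from
    (((G (ModuleCat.of R (F ⊗[R] M))).exactAt_iff_isZero_homology _).1 h2).of_iso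
      (P.isoLeftDerivedObj _ (q + 1))
  rw [HomologicalComplex.exactAt_iff' _ (q + 2) (q + 1) q (by simp [ChainComplex.prev]) (by simp),
    ShortComplex.ShortExact.moduleCat_exact_iff_function_exact] at h1 ⊢
  refine (Function.Exact.of_ladder_linearEquiv_of_exact
    (e₁ := (TensorProduct.assoc R F M (P.complex.X (q + 2))).symm)
    (e₂ := (TensorProduct.assoc R F M (P.complex.X (q + 1))).symm)
    (e₃ := (TensorProduct.assoc R F M (P.complex.X q)).symm) ?_ ?_ (Module.Flat.lTensor_exact F h1))
  all_goals exact TensorProduct.ext' fun a y => TensorProduct.induction_on y (by simp only [TensorProduct.tmul_zero, map_zero]) (fun _ _ => rfl) fun x y hx hy => by simp only [TensorProduct.tmul_add, map_add, hx, hy]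

variable {A R' : Type u} [CommRing A] [Algebra R A] [CommRing R'] [Algebra R R']

theorem ta_restrict_free (hA : TA (ModuleCat.of R R') (ModuleCat.of R A)) (M : ModuleCat.{u} A)
    [Module.Free A M] :
    TA (ModuleCat.of R R') ((ModuleCat.restrictScalars.{u} (algebraMap R A)).obj M) := by
  classical
  letI : Module R (M : Type u) := Module.compHom _ (algebraMap R A)
  haveI : IsScalarTower R A (M : Type u) := IsScalarTower.of_algebraMap_smul fun _ _ => rfl
  let b := Module.Free.chooseBasis A (M : Type u)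
  let e₀ : (Module.Free.ChooseBasisIndex A (M : Type u) →₀ R) ⊗[R] A ≃ₗ[R] (M : Type u) :=
    (TensorProduct.finsuppScalarLeft R A _).trans (b.repr.restrictScalars R).symm
  refine (ta_flat_tensor (Module.Free.ChooseBasisIndex A (M : Type u) →₀ R) A hA).of_iso ?_
  exact LinearEquiv.toModuleIso e₀

theorem ta_mappingCone {S : Type u} [CommRing S] (ρ : R →+* S) {N : ModuleCat.{u} R}
    {F K : CochainComplex (ModuleCat.{u} S) ℤ} (g : F ⟶ K) (i : ℤ)
    (hF : TA N ((ModuleCat.restrictScalars.{u} ρ).obj (F.X (i + 1))))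
    (hK : TA N ((ModuleCat.restrictScalars.{u} ρ).obj (K.X i))) :
    TA N ((ModuleCat.restrictScalars.{u} ρ).obj ((mappingCone g).X i)) := by
  let T : ShortComplex (ModuleCat.{u} S) :=
    ShortComplex.mk ((CochainComplex.mappingCone.inr g).f i)
      ((CochainComplex.mappingCone.fst g).1.v i (i + 1) rfl) (CochainComplex.mappingCone.inr_f_fst_v g _ _ _)
  have hT : T.Splitting :=
    { r := (CochainComplex.mappingCone.snd g).v i i (add_zero i)
      s := (CochainComplex.mappingCone.inl g).v (i + 1) i (by omega)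
      f_r := CochainComplex.mappingCone.inr_f_snd_v g i
      s_g := CochainComplex.mappingCone.inl_v_fst_v g (i + 1) i (by omega)
      id := by
        rw [add_comm]
        exact CochainComplex.mappingCone.id_X g i (i + 1) rfl }
  exact ta_middle (S := T.map (ModuleCat.restrictScalars.{u} ρ)) (hT.map _).shortExact hK hF

theorem exact_extend_of_ta (f : R →+* R') (hf : f = algebraMap R R') (C : CochainComplex (ModuleCat.{u} R) ℤ)
    (hC : ∀ i, C.ExactAt i) (c : ℤ) (hc : ∀ i, c < i → IsZero (C.X i))
    (hta : ∀ i, TA (ModuleCat.of R R') (C.X i)) (i : ℤ) :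
    Function.Exact ((ModuleCat.extendScalars.{u, u, u} f).map (C.d (i - 1) i)).hom
      ((ModuleCat.extendScalars.{u, u, u} f).map (C.d i (i + 1))).hom := by
  let N := (ModuleCat.restrictScalars.{u} f).obj (ModuleCat.of R' R')
  let E : R' ≃ₗ[R] (N : Type u) :=
    { toFun := fun x => x
      invFun := fun x => x
      left_inv := fun _ => rfl
      right_inv := fun _ => rfl
      map_add' := fun _ _ => rfl
      map_smul' := fun r x => by
        subst hf
        exact Algebra.smul_def r x }
  have e : ModuleCat.of R R' ≅ N := E.toModuleIso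
  have hta' : ∀ i, TA N (C.X i) := fun i p hp =>
    (hta i p hp).of_iso (((CategoryTheory.Tor (ModuleCat.{u} R) p).obj (C.X i)).mapIso e.symm)
  letI := f.toAlgebra
  exact Function.Exact.of_ladder_addEquiv_of_exact
    (e₁ := (TensorProduct.comm R (C.X (i - 1) : Type u) (N : Type u)).toAddEquiv)
    (e₂ := (TensorProduct.comm R (C.X i : Type u) (N : Type u)).toAddEquiv)
    (e₃ := (TensorProduct.comm R (C.X (i + 1) : Type u) (N : Type u)).toAddEquiv)
    (f₁₂ := ((C.d (i - 1) i).hom.rTensor (N : Type u)).toAddMonoidHom)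
    (f₂₃ := ((C.d i (i + 1)).hom.rTensor (N : Type u)).toAddMonoidHom)
    (g₁₂ := ((ModuleCat.extendScalars.{u, u, u} f).map (C.d (i - 1) i)).hom.toAddMonoidHom)
    (g₂₃ := ((ModuleCat.extendScalars.{u, u, u} f).map (C.d i (i + 1))).hom.toAddMonoidHom)
    (AddMonoidHom.ext fun x => TensorProduct.induction_on x (by simp only [map_zero]) (fun _ _ => rfl)
      fun x y hx hy => by rw [map_add, map_add, hx, hy])
    (AddMonoidHom.ext fun x => TensorProduct.induction_on x (by simp only [map_zero]) (fun _ _ => rfl)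
      fun x y hx hy => by rw [map_add, map_add, hx, hy])
    (exact_rTensor_of_ta C hC c hc hta' i)

/-- Tor-independent base change. -/
theorem isRel_torBC [Algebra.FiniteType R A]
    (htor : ∀ p : ℕ, 0 < p → Subsingleton (DRing.Tor R p A R'))
    [DRing.HasLBaseChange (Algebra.TensorProduct.includeRight : A →ₐ[R] R' ⊗[R] A).toRingHom]
    (K : Dual.D A) (m : ℤ) (h : DerCA.IsRelPseudoCoherent R A m K) :
    DerCA.IsRelPseudoCoherent R' (R' ⊗[R] A) m
      ((DRing.LBaseChange (Algebra.TensorProduct.includeRight : A →ₐ[R] R' ⊗[R] A).toRingHom).obj K) := by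
  obtain ⟨n, α, hα⟩ := exists_pres R A
  have hK : PV α.toRingHom m K := (isRel_iff α hα K m).1 h
  obtain ⟨b, hb⟩ := exists_bound_of_pc hK
  obtain ⟨G, hGb, hGf, ⟨eG⟩⟩ := DRingLib.exists_free_rep K b fun i hi => by
    have : Subsingleton ((DRingLib.Hn A i).obj K) := (isZero_restrict_iff _ K i).1 (hb i hi)
    exact ModuleCat.isZero_of_subsingleton _
  let G₀ := ((ModuleCat.restrictScalars.{u} α.toRingHom).mapHomologicalComplex (ComplexShape.up ℤ)).obj G
  have hG₀ : DRing.IsPseudoCoherent (MvPolynomial (Fin n) R) m (DerivedCategory.Q.obj G₀) :=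
    DRingLib.isPseudoCoherent_of_iso
      ((ModuleCat.restrictScalars.{u} α.toRingHom).mapDerivedCategoryFactors.app G) (hK.of_iso eG.symm)
  obtain ⟨F, hFb, hFf, ⟨eF⟩⟩ := DRingLib.exists_free_rep (DerivedCategory.Q.obj G₀) b fun i hi =>
    DRingLib.isZero_Hn_Q G₀ i ((ModuleCat.restrictScalars.{u} _).map_isZero (hGb i hi))
  have := DRingLib.isKProjective_of_free F b hFb hFf
  obtain ⟨g, hg⟩ := DRingLib.exists_qis_of_iso F G₀ eF
  letI : Algebra (MvPolynomial (Fin n) R) (MvPolynomial (Fin n) R') := MvPolynomial.algebraMvPolynomial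
  haveI : IsScalarTower R (MvPolynomial (Fin n) R) (MvPolynomial (Fin n) R') :=
    IsScalarTower.of_algebraMap_eq fun r => (MvPolynomial.map_C _ r).symm
  let φ := algebraMap (MvPolynomial (Fin n) R) (MvPolynomial (Fin n) R')
  let ι := (Algebra.TensorProduct.includeRight : A →ₐ[R] R' ⊗[R] A)
  let β : MvPolynomial (Fin n) R' →ₐ[R'] R' ⊗[R] A :=
    MvPolynomial.aeval fun i => ι (α (MvPolynomial.X i))
  have hsq : ι.toRingHom.comp α.toRingHom = β.toRingHom.comp φ := by
    refine MvPolynomial.ringHom_ext (fun r => ?_) (fun i => ?_)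
    · change ι (α (MvPolynomial.C r)) = β (MvPolynomial.map (algebraMap R R') (MvPolynomial.C r))
      rw [MvPolynomial.map_C, ← MvPolynomial.algebraMap_eq, α.commutes, ι.commutes,
        ← MvPolynomial.algebraMap_eq, β.commutes, IsScalarTower.algebraMap_apply R R' (R' ⊗[R] A)]
    · change ι (α (MvPolynomial.X i)) = β (MvPolynomial.map (algebraMap R R') (MvPolynomial.X i))
      rw [MvPolynomial.map_X, MvPolynomial.aeval_X]
  have hβ : Function.Surjective β := by
    intro x
    induction x with
    | zero => exact ⟨0, map_zero β⟩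
    | add x y hx hy =>
      obtain ⟨p, rfl⟩ := hx
      obtain ⟨q, rfl⟩ := hy
      exact ⟨p + q, map_add β p q⟩
    | tmul s a =>
      obtain ⟨p, rfl⟩ := hα a
      refine ⟨MvPolynomial.C s * φ p, ?_⟩
      have hp : β (φ p) = ι (α p) := (RingHom.congr_fun hsq p).symm
      rw [map_mul, hp, ← MvPolynomial.algebraMap_eq, β.commutes]
      simp [ι, Algebra.TensorProduct.algebraMap_apply]
  have hsq' : IsPush φ α.toRingHom ι.toRingHom β.toRingHom hsq := by
    letI : Algebra (MvPolynomial (Fin n) R) A := α.toRingHom.toAlgebra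
    letI : Algebra (MvPolynomial (Fin n) R') (R' ⊗[R] A) := β.toRingHom.toAlgebra
    letI : Algebra A (R' ⊗[R] A) := ι.toRingHom.toAlgebra
    letI : Algebra (MvPolynomial (Fin n) R) (R' ⊗[R] A) := (ι.toRingHom.comp α.toRingHom).toAlgebra
    haveI : IsScalarTower (MvPolynomial (Fin n) R) A (R' ⊗[R] A) := IsScalarTower.of_algebraMap_eq' rfl
    haveI : IsScalarTower (MvPolynomial (Fin n) R) (MvPolynomial (Fin n) R') (R' ⊗[R] A) :=
      IsScalarTower.of_algebraMap_eq' hsq
    haveI : IsScalarTower R' (MvPolynomial (Fin n) R') (R' ⊗[R] A) :=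
      IsScalarTower.of_algebraMap_eq fun r => (β.commutes r).symm
    haveI : IsScalarTower R A (R' ⊗[R] A) := IsScalarTower.of_algebraMap_eq fun r => (ι.commutes r).symm
    haveI : IsScalarTower R (MvPolynomial (Fin n) R) A :=
      IsScalarTower.of_algebraMap_eq fun r => (α.commutes r).symm
    haveI : IsScalarTower R (MvPolynomial (Fin n) R) (R' ⊗[R] A) := IsScalarTower.of_algebraMap_eq fun r => by
      change _ = ι (α (algebraMap R _ r))
      rw [α.commutes, ι.commutes]
    haveI : IsScalarTower R (MvPolynomial (Fin n) R') (R' ⊗[R] A) :=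
      IsScalarTower.of_algebraMap_eq fun r => by
        rw [IsScalarTower.algebraMap_apply R R' (MvPolynomial (Fin n) R'),
          ← IsScalarTower.algebraMap_apply R' (MvPolynomial (Fin n) R') (R' ⊗[R] A),
          ← IsScalarTower.algebraMap_apply R R' (R' ⊗[R] A)]
    haveI : Algebra.IsPushout (MvPolynomial (Fin n) R) A (MvPolynomial (Fin n) R') (R' ⊗[R] A) :=
      (Algebra.IsPushout.comp_iff R (MvPolynomial (Fin n) R) R' (MvPolynomial (Fin n) R')
        (T := A) (T' := R' ⊗[R] A)).1 inferInstance
    haveI : Algebra.IsPushout (MvPolynomial (Fin n) R) (MvPolynomial (Fin n) R') A (R' ⊗[R] A) :=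
      Algebra.IsPushout.symm inferInstance
    exact isPush_of_isPushout
  have hta : TA (ModuleCat.of R R') (ModuleCat.of R A) := fun p hp =>
    ModuleCat.isZero_of_iff_subsingleton.2 (htor p hp)
  let ρ := algebraMap R (MvPolynomial (Fin n) R)
  have hq : QuasiIso ((DRingLib.extCx φ).map g) := by
    refine KFlatLib.quasiIso_map_of_cone _ g fun i => ?_
    let C := mappingCone g
    let Cr := ((ModuleCat.restrictScalars.{u} ρ).mapHomologicalComplex (ComplexShape.up ℤ)).obj C
    have hC : ∀ i, Cr.ExactAt i := fun i => by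
      have h0 : C.ExactAt i := (exactAt_iff_isZero_homology _ i).2 ((KFlatLib.acyclic_cone_iff g).mpr hg i)
      exact h0.map (ModuleCat.restrictScalars.{u} ρ)
    have hCb : ∀ i, b < i → IsZero (Cr.X i) := fun i hi => by
      refine (ModuleCat.restrictScalars.{u} ρ).map_isZero ?_
      refine (IsZero.iff_id_eq_zero _).2 ((CochainComplex.mappingCone.ext_from_iff g (i + 1) i rfl _ _).2
        ⟨(hFb (i + 1) (by omega)).eq_of_src _ _,
          ((ModuleCat.restrictScalars.{u} _).map_isZero (hGb i hi)).eq_of_src _ _⟩)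
    have hCt : ∀ i, TA (ModuleCat.of R R') (Cr.X i) := fun i => by
      refine ta_mappingCone ρ g i ?_ ?_
      · haveI := hFf (i + 1)
        letI : Module R (F.X (i + 1) : Type u) := Module.compHom _ ρ
        haveI : IsScalarTower R (MvPolynomial (Fin n) R) (F.X (i + 1) : Type u) :=
          IsScalarTower.of_algebraMap_smul fun _ _ => rfl
        haveI : Module.Flat R ((ModuleCat.restrictScalars.{u} ρ).obj (F.X (i + 1))) :=
          Module.Flat.trans R (MvPolynomial (Fin n) R) (F.X (i + 1) : Type u)
        exact ta_of_flat _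
      · haveI := hGf i
        have hc : α.toRingHom.comp ρ = algebraMap R A := α.comp_algebraMap
        exact (ta_restrict_free hta (G.X i)).of_iso
          (eqToIso (congrArg (fun f => (ModuleCat.restrictScalars.{u} f).obj (G.X i)) hc.symm) ≪≫
            (ModuleCat.restrictScalarsComp.{u} ρ α.toRingHom).app (G.X i))
    have hex : (((ModuleCat.extendScalars.{u, u, u} (algebraMap R R')).mapHomologicalComplex
        (ComplexShape.up ℤ)).obj Cr).ExactAt i := by
      rw [exactAt_iff' _ (i - 1) i (i + 1) (by simp) (by simp),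
        ShortComplex.ShortExact.moduleCat_exact_iff_function_exact]
      exact exact_extend_of_ta (algebraMap R R') rfl Cr hC b hCb hCt i
    have hp : IsPush (algebraMap R R') ρ φ (algebraMap R' (MvPolynomial (Fin n) R'))
        ((IsScalarTower.algebraMap_eq R (MvPolynomial (Fin n) R) (MvPolynomial (Fin n) R')).symm.trans
          (IsScalarTower.algebraMap_eq R R' (MvPolynomial (Fin n) R'))) := isPush_of_isPushout
    obtain ⟨e⟩ := nonempty_sqIso hp
    have h2 : (((ModuleCat.restrictScalars.{u} (algebraMap R' (MvPolynomial (Fin n) R'))).mapHomologicalComplex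
        (ComplexShape.up ℤ)).obj ((DRingLib.extCx φ).obj C)).ExactAt i :=
      hex.of_iso (HomologicalComplex.Hom.isoOfComponents
        (C₁ := ((ModuleCat.extendScalars.{u, u, u} (algebraMap R R')).mapHomologicalComplex (ComplexShape.up ℤ)).obj Cr)
        (fun j => e.app (C.X j)) fun j k _ => (e.hom.naturality (C.d j k)).symm)
    refine (exactAt_iff_isZero_homology _ i).1 ?_
    rw [exactAt_iff' _ (i - 1) i (i + 1) (by simp) (by simp),
      ShortComplex.ShortExact.moduleCat_exact_iff_function_exact] at h2 ⊢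
    exact h2
  have hFpc : DRing.IsPseudoCoherent (MvPolynomial (Fin n) R') m
      (DerivedCategory.Q.obj ((DRingLib.extCx φ).obj F)) := by
    obtain ⟨E, a, hE, ha⟩ := DRingLib.isPseudoCoherent_iff.1 (DRingLib.isPseudoCoherent_of_iso eF.symm hG₀)
    haveI := hE.isKProjective
    obtain ⟨f, rfl⟩ := DRingLib.Q_map_surjective E F a
    haveI := DRingLib.hasLBaseChange φ
    refine DRingLib.isPseudoCoherent_iff.2 ⟨_, DerivedCategory.Q.map ((DRingLib.extCx φ).map f), hE.extCx φ, ?_⟩
    obtain ⟨l, u', hl, hf⟩ := hE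
    exact DRingLib.isoAboveEpiAt_extCx φ f
      (DRingLib.isKFlat_of_free E u' (fun i hi => hl i (Or.inr hi)) fun i => (hf i).2)
      (DRingLib.isKFlat_of_free F b hFb hFf) m ha
  haveI : IsIso (DerivedCategory.Q.map ((DRingLib.extCx φ).map g)) :=
    (DerivedCategory.isIso_Q_map_iff_quasiIso (φ := (DRingLib.extCx φ).map g)).2 hq
  obtain ⟨i⟩ := nonempty_sqIsoD hsq' G
  refine (isRel_iff β hβ _ m).2 ?_
  exact PV.of_iso (((DRingLib.lBaseChangeObjIso ι.toRingHom G (DRingLib.isKFlat_of_free G b hGb hGf)).symm ≪≫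
    (DRing.LBaseChange ι.toRingHom).mapIso eG))
    (DRingLib.isPseudoCoherent_of_iso (asIso (DerivedCategory.Q.map ((DRingLib.extCx φ).map g)) ≪≫ i) hFpc)

end Groth.Agent.RelPCLib
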