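import Groth.Agent.RelPCLib.Easy
import Groth.Agent.DRingLib.Amplitude
import Groth.Agent.KFlatLib.RingBaseChange

/-!
# Base change along pseudo-coherent quotients
-/

set_option autoImplicit false
set_option linter.style.haveILetI false

universe u

open CategoryTheory CategoryTheory.Limits HomologicalComplex MonoidalCategory
open scoped TensorProduct

attribute [local instance] HasDerivedCategory.standard

namespace Groth.Agent.RelPCLib

open KFlatLib (tensorN)

variable {S Q B : Type u} [CommRing S] [CommRing Q] [CommRing B]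

/-- `G ⊗ g` for a map of modules. -/
noncomputable def tensorNMap (G : DRing.Cx Q) {M N : ModuleCat.{u} Q} (g : M ⟶ N) :
    tensorN G M ⟶ tensorN G N :=
  (NatTrans.mapHomologicalComplex ((tensoringRight (ModuleCat.{u} Q)).map g) (ComplexShape.up ℤ)).app G

/-- Tensoring a complex of flat modules with a short exact sequence. -/
theorem exists_tensorN_triangle (G : DRing.Cx Q) (hG : ∀ i, Module.Flat Q (G.X i))
    (T : ShortComplex (ModuleCat.{u} Q)) (hT : T.ShortExact) :
    ∃ D ∈ Pretriangulated.distinguishedTriangles (C := Dual.D Q),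
      D.obj₁ = DRing.toD (tensorN G T.X₁) ∧ D.obj₂ = DRing.toD (tensorN G T.X₂) ∧
      D.obj₃ = DRing.toD (tensorN G T.X₃) := by
  let E : ShortComplex (DRing.Cx Q) :=
    ShortComplex.mk (tensorNMap G T.f) (tensorNMap G T.g) (by
      ext n : 1
      change G.X n ◁ T.f ≫ G.X n ◁ T.g = 0
      rw [← MonoidalCategory.whiskerLeft_comp, T.zero, MonoidalPreadditive.whiskerLeft_zero])
  have hE : E.ShortExact := by
    refine (shortExact_iff_degreewise_shortExact E).2 fun n => ?_
    haveI := hG n
    have h0 : Function.Exact T.f.hom T.g.hom :=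
      (ShortComplex.moduleCat_exact_iff_range_eq_ker T).1 hT.exact |> fun h =>
        LinearMap.exact_iff.2 h.symm
    refine { exact := ?_, mono_f := ?_, epi_g := ?_ }
    · rw [ShortComplex.moduleCat_exact_iff_range_eq_ker]
      change LinearMap.range (T.f.hom.lTensor (G.X n)) = LinearMap.ker (T.g.hom.lTensor (G.X n))
      exact (LinearMap.exact_iff.1 (lTensor_exact (G.X n) h0
        ((ModuleCat.epi_iff_surjective T.g).1 hT.epi_g))).symm
    · refine (ModuleCat.mono_iff_injective _).2 ?_
      change Function.Injective (T.f.hom.lTensor (G.X n))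
      exact Module.Flat.lTensor_preserves_injective_linearMap _
        ((ModuleCat.mono_iff_injective T.f).1 hT.mono_f)
    · refine (ModuleCat.epi_iff_surjective _).2 ?_
      change Function.Surjective (T.g.hom.lTensor (G.X n))
      exact LinearMap.lTensor_surjective _ ((ModuleCat.epi_iff_surjective T.g).1 hT.epi_g)
  exact ⟨_, DerivedCategory.triangleOfSES_distinguished hE, rfl, rfl, rfl⟩

theorem pv_tensorN_iso (φ : S →+* Q) (m : ℤ) (G : DRing.Cx Q) {M N : ModuleCat.{u} Q} (e : M ≅ N)
    (h : PV φ m (DRing.toD (tensorN G M))) : PV φ m (DRing.toD (tensorN G N)) :=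
  h.of_iso (DerivedCategory.Q.mapIso ((NatIso.mapHomologicalComplex
    ((tensoringRight (ModuleCat.{u} Q)).mapIso e) (ComplexShape.up ℤ)).app G))

/-- Finite free modules. -/
theorem pv_tensorN_free (φ : S →+* Q) (G : DRing.Cx Q) (hG : ∀ i, Module.Flat Q (G.X i)) (m : ℤ)
    (h : PV φ m (DRing.toD G)) :
    ∀ r : ℕ, PV φ m (DRing.toD (tensorN G (ModuleCat.of Q (ULift.{u} (Fin r) → Q)))) := by
  intro r
  induction r with
  | zero =>
    refine DRingLib.isPseudoCoherent_of_isZero fun i _ => ?_
    have hz : IsZero (ModuleCat.of Q (ULift.{u} (Fin 0) → Q)) := ModuleCat.isZero_of_subsingleton _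
    exact (DRingLib.Hn S i).map_isZero ((DRing.restrictD φ).map_isZero
      (DerivedCategory.Q.map_isZero ((IsZero.iff_id_eq_zero _).2 (by
        ext n : 1
        exact (((tensorLeft (G.X n)).map_isZero hz).eq_of_src _ _)))))
  | succ r ih =>
    let f : Q →ₗ[Q] (ULift.{u} (Fin (r + 1)) → Q) := LinearMap.single Q (fun _ => Q) ⟨0⟩
    let g : (ULift.{u} (Fin (r + 1)) → Q) →ₗ[Q] (ULift.{u} (Fin r) → Q) :=
      LinearMap.funLeft Q Q fun i => ⟨i.down.succ⟩
    let T : ShortComplex (ModuleCat.{u} Q) :=
      ShortComplex.mk (X₁ := 𝟙_ (ModuleCat.{u} Q)) (ModuleCat.ofHom f) (ModuleCat.ofHom g) (by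
        apply ModuleCat.hom_ext
        refine LinearMap.ext fun x => funext fun i => ?_
        change f x ⟨i.down.succ⟩ = 0
        exact Pi.single_eq_of_ne (M := fun _ : ULift.{u} (Fin (r + 1)) => Q)
          (fun h => Fin.succ_ne_zero _ (congrArg ULift.down h)) x)
    have hT : T.ShortExact := by
      refine { exact := ?_, mono_f := ?_, epi_g := ?_ }
      · rw [ShortComplex.moduleCat_exact_iff]
        intro v hv
        refine ⟨v ⟨0⟩, funext fun ⟨i⟩ => ?_⟩
        refine Fin.cases ?_ (fun j => ?_) i
        · change f (v ⟨0⟩) ⟨0⟩ = v ⟨0⟩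
          simp [f]
        · change f (v ⟨0⟩) ⟨j.succ⟩ = v ⟨j.succ⟩
          exact (Pi.single_eq_of_ne (M := fun _ : ULift.{u} (Fin (r + 1)) => Q)
            (fun h => Fin.succ_ne_zero _ (congrArg ULift.down h)) (v ⟨0⟩)).trans
            (congrFun hv ⟨j⟩).symm
      · exact (ModuleCat.mono_iff_injective _).2 (Pi.single_injective (M := fun _ : ULift.{u} (Fin (r + 1)) => Q) _)
      · exact (ModuleCat.epi_iff_surjective _).2 (LinearMap.funLeft_surjective_of_injective _ _ _
          fun a b h => ULift.ext _ _ (Fin.succ_injective _ (congrArg ULift.down h)))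
    obtain ⟨D, hD, h1, h2, h3⟩ := exists_tensorN_triangle G hG T hT
    have := (pv_tri φ m D hD).2.1
    rw [h1, h2, h3] at this
    refine this (h.of_iso (DerivedCategory.Q.mapIso (Hom.isoOfComponents (fun n => (ρ_ (G.X n)).symm)
      fun i j _ => (rightUnitor_inv_naturality (G.d i j)).symm))) ih

/-- A pseudo-coherent module tensored with a pseudo-coherent bounded above flat complex. -/
theorem pv_tensorN (φ : S →+* Q) (G : DRing.Cx Q) (hG : ∀ i, Module.Flat Q (G.X i)) (b : ℤ)
    (hb : ∀ i, b < i → IsZero (G.X i)) :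
    ∀ (k : ℕ) (m : ℤ), b + 1 - m ≤ k → PV φ m (DRing.toD G) → ∀ M : ModuleCat.{u} Q,
      (∀ n, DRing.IsPseudoCoherentModule Q n M) → PV φ m (DRing.toD (tensorN G M)) := by
  intro k
  induction k with
  | zero =>
    intro m hm _ M _
    refine DRingLib.isPseudoCoherent_of_isZero fun i hi => (isZero_restrict_iff φ _ i).2 ?_
    exact ModuleCat.subsingleton_of_isZero (DRingLib.isZero_Hn_Q (tensorN G M) i
      ((tensorRight M).map_isZero (hb i (by omega))))
  | succ k ih =>
    intro m hm hGm M hM
    haveI : Module.Finite Q M := by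
      haveI := DRingLib.finite_of_isPseudoCoherent (hM 0)
        fun i hi => DRingLib.isZero_Hn_inD _ hi.ne'
      exact Module.Finite.equiv (DRingLib.inDEquiv (R := Q) M)
    obtain ⟨r, p, hp⟩ := Module.Finite.exists_fin' Q M
    let p' : (ULift.{u} (Fin r) → Q) →ₗ[Q] M := p.comp (LinearEquiv.funCongrLeft Q Q Equiv.ulift.symm).toLinearMap
    have hp' : Function.Surjective p' := hp.comp (LinearEquiv.funCongrLeft Q Q Equiv.ulift.symm).surjective
    let T : ShortComplex (ModuleCat.{u} Q) :=
      ShortComplex.mk (ModuleCat.ofHom (LinearMap.ker p').subtype) (ModuleCat.ofHom p')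
        (ModuleCat.hom_ext (LinearMap.comp_ker_subtype p'))
    have hT : T.ShortExact := by
      refine { exact := ?_, mono_f := ?_, epi_g := ?_ }
      · rw [ShortComplex.moduleCat_exact_iff]
        exact fun v hv => ⟨⟨v, hv⟩, rfl⟩
      · exact (ModuleCat.mono_iff_injective _).2 Subtype.val_injective
      · exact (ModuleCat.epi_iff_surjective _).2 hp'
    have hK : ∀ n, DRing.IsPseudoCoherentModule Q n T.X₁ := fun n => by
      have := DRingLib.isPseudoCoherent_obj₁ _ hT.singleTriangle_distinguished (n - 1)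
        (isPC_free (ULift.{u} (Fin r) → Q) _) (hM (n - 1))
      rwa [sub_add_cancel] at this
    obtain ⟨D, hD, h1, h2, h3⟩ := exists_tensorN_triangle G hG T hT
    have := (pv_tri φ m D hD).1
    rw [h1, h2, h3] at this
    exact this (ih (m + 1) (by push_cast at hm ⊢; omega) (hGm.mono (by omega)) _ hK)
      (pv_tensorN_free φ G hG m hGm r)

/-- Extension followed by restriction along `β` is tensoring with the target. -/
theorem nonempty_restrict_extCx (β : Q →+* B) (G : DRing.Cx Q) :
    Nonempty (DRing.toD (tensorN G ((ModuleCat.restrictScalars.{u} β).obj (ModuleCat.of B B))) ≅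
      (DRing.restrictD β).obj (DerivedCategory.Q.obj ((DRingLib.extCx β).obj G))) := by
  letI := β.toAlgebra
  let e : ∀ M : ModuleCat.{u} Q, MonoidalCategory.tensorObj M ((ModuleCat.restrictScalars.{u} β).obj (ModuleCat.of B B)) ≅
      (ModuleCat.restrictScalars.{u} β).obj ((ModuleCat.extendScalars.{u, u, u} β).obj M) := fun M => by
    let c := TensorProduct.comm Q (M : Type u)
      ((ModuleCat.restrictScalars.{u} β).obj (ModuleCat.of B B) : Type u)
    let E : (MonoidalCategory.tensorObj M ((ModuleCat.restrictScalars.{u} β).obj (ModuleCat.of B B)) : ModuleCat.{u} Q) ≃ₗ[Q]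
        ((ModuleCat.restrictScalars.{u} β).obj ((ModuleCat.extendScalars.{u, u, u} β).obj M) : Type u) :=
      { toFun := c, invFun := c.symm, left_inv := c.left_inv, right_inv := c.right_inv,
        map_add' := c.map_add,
        map_smul' := fun q x => (c.map_smul q x).trans (algebraMap_smul B q (show TensorProduct Q B (M : Type u) from c x)).symm }
    exact E.toModuleIso
  exact ⟨DerivedCategory.Q.mapIso (Hom.isoOfComponents
      (C₂ := ((ModuleCat.restrictScalars.{u} β).mapHomologicalComplex (ComplexShape.up ℤ)).obj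
        ((DRingLib.extCx β).obj G))
      (fun n => e (G.X n)) fun i j _ => by
        apply ModuleCat.hom_ext
        exact TensorProduct.ext' fun x y => rfl) ≪≫
    ((ModuleCat.restrictScalars.{u} β).mapDerivedCategoryFactors.app _).symm⟩

/-- Base change along a pseudo-coherent ring map. -/
theorem pv_extCx (φ : S →+* Q) (β : Q →+* B) (hβ : PH β) (G : DRing.Cx Q)
    (hG : ∀ i, Module.Flat Q (G.X i)) (b : ℤ) (hb : ∀ i, b < i → IsZero (G.X i)) (m : ℤ)
    (h : PV φ m (DRing.toD G)) : PV (β.comp φ) m (DerivedCategory.Q.obj ((DRingLib.extCx β).obj G)) := by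
  obtain ⟨e⟩ := nonempty_restrict_extCx β G
  obtain ⟨e'⟩ := nonempty_restrictD_comp φ β (DerivedCategory.Q.obj ((DRingLib.extCx β).obj G))
  refine DRingLib.isPseudoCoherent_of_iso e' (PV.of_iso e ?_)
  exact pv_tensorN φ G hG b hb (b + 1 - m).toNat m (by omega) h _
    fun n => (pv_module_iff β n (ModuleCat.of B B)).1 (hβ n)

end Groth.Agent.RelPCLib
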