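import Groth.Agent.RelPCLib.Basic

/-!
# Flat base change against restriction of scalars
-/

set_option autoImplicit false
set_option linter.style.haveILetI false

universe u

open CategoryTheory CategoryTheory.Limits HomologicalComplex
open scoped TensorProduct

attribute [local instance] HasDerivedCategory.standard

namespace Groth.Agent.RelPCLib

variable {P P' A A' : Type u} [CommRing P] [CommRing P'] [CommRing A] [CommRing A']

/-- The ring maps form a pushout square. -/
def IsPush (φ : P →+* P') (ψ : P →+* A) (φ' : A →+* A') (ψ' : P' →+* A')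
    (sq : φ'.comp ψ = ψ'.comp φ) : Prop :=
  letI := φ.toAlgebra
  letI := ψ.toAlgebra
  letI := φ'.toAlgebra
  letI := ψ'.toAlgebra
  letI := (φ'.comp ψ).toAlgebra
  haveI : IsScalarTower P A A' := IsScalarTower.of_algebraMap_eq' rfl
  haveI : IsScalarTower P P' A' := IsScalarTower.of_algebraMap_eq' sq
  Algebra.IsPushout P P' A A'

variable {φ : P →+* P'} {ψ : P →+* A} {φ' : A →+* A'} {ψ' : P' →+* A'}

/-- The base change comparison of one module. -/
theorem exists_sqEquiv {sq : φ'.comp ψ = ψ'.comp φ} (h : IsPush φ ψ φ' ψ' sq) (M : ModuleCat.{u} A) :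
    ∃ e : (ModuleCat.extendScalars.{u, u, u} φ).obj ((ModuleCat.restrictScalars.{u} ψ).obj M) ≅
      (ModuleCat.restrictScalars.{u} ψ').obj ((ModuleCat.extendScalars.{u, u, u} φ').obj M),
      ∀ m : (M : Type u),
        (letI := φ.toAlgebra; e.hom.hom ((1 : P') ⊗ₜ[P] (show ((ModuleCat.restrictScalars.{u} ψ).obj M : Type u) from m))) =
          (letI := φ'.toAlgebra; (1 : A') ⊗ₜ[A] m) := by
  letI := φ.toAlgebra
  letI := ψ.toAlgebra
  letI := φ'.toAlgebra
  letI := ψ'.toAlgebra
  letI := (φ'.comp ψ).toAlgebra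
  haveI : IsScalarTower P A A' := IsScalarTower.of_algebraMap_eq' rfl
  haveI : IsScalarTower P P' A' := IsScalarTower.of_algebraMap_eq' sq
  haveI : Algebra.IsPushout P P' A A' := h
  letI : Module P (M : Type u) := Module.compHom _ ψ
  haveI : IsScalarTower P A (M : Type u) := IsScalarTower.of_algebraMap_smul fun _ _ => rfl
  let e := (Algebra.IsPushout.cancelBaseChange P P' A A' (M : Type u)).symm
  let E : ((ModuleCat.extendScalars.{u, u, u} φ).obj ((ModuleCat.restrictScalars.{u} ψ).obj M) : Type u) ≃ₗ[P']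
      ((ModuleCat.restrictScalars.{u} ψ').obj ((ModuleCat.extendScalars.{u, u, u} φ').obj M) : Type u) :=
    { toFun := e, invFun := e.symm, left_inv := e.left_inv, right_inv := e.right_inv,
      map_add' := e.map_add,
      map_smul' := fun r x => (e.map_smul r x).trans (algebraMap_smul A' r (e x)).symm }
  refine ⟨E.toModuleIso, fun m => ?_⟩
  · change e (1 ⊗ₜ[P] m) = _
    rw [LinearEquiv.symm_apply_eq]
    exact (Algebra.IsPushout.cancelBaseChange_tmul P P' A A' (M : Type u) m).symm

/-- The base change comparison. -/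
theorem nonempty_sqIso {sq : φ'.comp ψ = ψ'.comp φ} (h : IsPush φ ψ φ' ψ' sq) :
    Nonempty (ModuleCat.restrictScalars.{u} ψ ⋙ ModuleCat.extendScalars.{u, u, u} φ ≅
      ModuleCat.extendScalars.{u, u, u} φ' ⋙ ModuleCat.restrictScalars.{u} ψ') := by
  choose e he using exists_sqEquiv h
  refine ⟨NatIso.ofComponents e fun {M N} f => ?_⟩
  refine ModuleCat.ExtendScalars.hom_ext fun m => ?_
  exact ((congrArg (e N).hom.hom (ModuleCat.ExtendScalars.map_tmul φ _ 1 m)).trans (he N (f.hom m))).trans
    ((congrArg ((ModuleCat.extendScalars.{u, u, u} φ').map f).hom (he M m)).trans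
    (ModuleCat.ExtendScalars.map_tmul φ' f 1 m)).symm

/-- The comparison in the derived category. -/
theorem nonempty_sqIsoD {sq : φ'.comp ψ = ψ'.comp φ} (h : IsPush φ ψ φ' ψ' sq) (K : DRing.Cx A) :
    Nonempty (DerivedCategory.Q.obj ((DRingLib.extCx φ).obj
        (((ModuleCat.restrictScalars.{u} ψ).mapHomologicalComplex (ComplexShape.up ℤ)).obj K)) ≅
      (DRing.restrictD ψ').obj (DRing.toD (((ModuleCat.extendScalars.{u, u, u} φ').mapHomologicalComplex
        (ComplexShape.up ℤ)).obj K))) := by
  obtain ⟨e⟩ := nonempty_sqIso h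
  exact ⟨DerivedCategory.Q.mapIso (HomologicalComplex.Hom.isoOfComponents
      (C₂ := ((ModuleCat.restrictScalars.{u} ψ').mapHomologicalComplex (ComplexShape.up ℤ)).obj
        (((ModuleCat.extendScalars.{u, u, u} φ').mapHomologicalComplex (ComplexShape.up ℤ)).obj K))
      (fun i => e.app (K.X i)) fun i j _ => (e.hom.naturality (K.d i j)).symm) ≪≫
    ((ModuleCat.restrictScalars.{u} ψ').mapDerivedCategoryFactors.app _).symm⟩

end Groth.Agent.RelPCLib
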