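import Groth.Agent.RelPCLib.Indep
import Groth.Agent.RelPCLib.Easy
import Groth.Agent.RelPCLib.Square
import Mathlib.RingTheory.Localization.Away.AdjoinRoot

/-!
# Relative pseudo-coherence and localization
-/

set_option autoImplicit false
set_option linter.style.haveILetI false

universe u

open CategoryTheory CategoryTheory.Limits
open scoped TensorProduct

attribute [local instance] HasDerivedCategory.standard

namespace Groth.Agent.RelPCLib

variable {P A : Type u} [CommRing P] [CommRing A]

theorem isSMulRegular_mul_X_sub_one (a : P) :
    IsSMulRegular (Polynomial P) (Polynomial.C a * Polynomial.X - 1) := by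
  refine fun p₁ p₂ h => sub_eq_zero.1 ?_
  have hp : (Polynomial.C a * Polynomial.X - 1) • (p₁ - p₂) = 0 := by
    rw [smul_sub]; exact sub_eq_zero.2 h
  generalize p₁ - p₂ = p at hp
  have h0 : (Polynomial.C a * (Polynomial.X * p)) = p := by
    have h1 : Polynomial.C a * (Polynomial.X * p) - p = 0 := by
      rw [← hp, smul_eq_mul]; ring
    exact sub_eq_zero.1 h1
  ext n
  induction n with
  | zero => rw [← h0]; simp [Polynomial.mul_coeff_zero]
  | succ n ih =>
    rw [← h0, Polynomial.coeff_C_mul, Polynomial.coeff_X_mul, ih]
    simp

/-- The presentation of a principal localization. -/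
noncomputable def awayPres (a : P) : Polynomial P →+* Localization.Away a :=
  (Localization.awayEquivAdjoin a).symm.toRingEquiv.toRingHom.comp (AdjoinRoot.mk _)

theorem awayPres_surjective (a : P) : Function.Surjective (awayPres a) :=
  (Localization.awayEquivAdjoin a).symm.surjective.comp AdjoinRoot.mk_surjective

theorem awayPres_C (a x : P) : awayPres a (Polynomial.C x) = algebraMap P (Localization.Away a) x :=
  (Localization.awayEquivAdjoin a).symm.commutes x

theorem ph_awayPres (a : P) : PH (awayPres a) := by
  refine ph_of_principal _ (awayPres_surjective a) (Polynomial.C a * Polynomial.X - 1)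
    (isSMulRegular_mul_X_sub_one a) ?_
  ext p
  rw [RingHom.mem_ker, Ideal.mem_span_singleton, ← AdjoinRoot.mk_eq_zero]
  exact map_eq_zero_iff _ (Localization.awayEquivAdjoin a).symm.injective

theorem awayMap_surjective {α : P →+* A} (hα : Function.Surjective α) (a : P) :
    Function.Surjective (Localization.awayMap α a) := by
  intro z
  obtain ⟨n, y, hy⟩ := IsLocalization.Away.surj (α a) z
  obtain ⟨x, rfl⟩ := hα y
  refine ⟨algebraMap P (Localization.Away a) x * IsLocalization.Away.invSelf a ^ n, ?_⟩
  have hu : IsUnit (algebraMap A (Localization.Away (α a)) (α a) ^ n) :=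
    (IsLocalization.Away.algebraMap_isUnit (α a)).pow n
  refine hu.mul_right_cancel ?_
  rw [hy, map_mul, map_pow]
  simp only [IsLocalization.Away.map, IsLocalization.map_eq]
  rw [← IsLocalization.map_eq (M := Submonoid.powers a) (T := Submonoid.powers (α a))
    (Q := Localization.Away (α a)) (S := Localization.Away a)
    (show Submonoid.powers a ≤ (Submonoid.powers (α a)).comap α by
      rintro x ⟨n, rfl⟩; exact ⟨n, (map_pow α a n).symm⟩) a, mul_assoc, ← mul_pow,
    ← map_mul, mul_comm (IsLocalization.Away.invSelf a), IsLocalization.Away.mul_invSelf, map_one,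
    one_pow, mul_one]

theorem isPush_of_isPushout {P' A' : Type u} [CommRing P'] [CommRing A'] [Algebra P P'] [Algebra P A]
    [Algebra A A'] [Algebra P' A'] [Algebra P A'] [IsScalarTower P A A'] [IsScalarTower P P' A']
    [h : Algebra.IsPushout P P' A A'] :
    IsPush (algebraMap P P') (algebraMap P A) (algebraMap A A') (algebraMap P' A')
      ((IsScalarTower.algebraMap_eq P A A').symm.trans (IsScalarTower.algebraMap_eq P P' A')) := by
  unfold IsPush
  convert h using 1
  all_goals
    refine Algebra.algebra_ext _ _ fun x => ?_
    first
      | rfl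
      | exact (IsScalarTower.algebraMap_apply P A A' x).symm

theorem isPush_away (α : P →+* A) (a : P) :
    IsPush (algebraMap P (Localization.Away a)) α (algebraMap A (Localization.Away (α a)))
      (Localization.awayMap α a)
      ((IsLocalization.map_comp (M := Submonoid.powers a) (T := Submonoid.powers (α a))
        (Q := Localization.Away (α a)) (S := Localization.Away a)
        (show Submonoid.powers a ≤ (Submonoid.powers (α a)).comap α by
          rintro x ⟨n, rfl⟩; exact ⟨n, (map_pow α a n).symm⟩)).symm) := by
  letI := α.toAlgebra
  letI := (Localization.awayMap α a).toAlgebra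
  haveI : IsScalarTower P (Localization.Away a) (Localization.Away (α a)) :=
    IsScalarTower.of_algebraMap_eq fun x =>
      (by
        rw [IsScalarTower.algebraMap_apply P A (Localization.Away (α a))]
        exact (IsLocalization.map_eq (M := Submonoid.powers a) (T := Submonoid.powers (α a))
          (S := Localization.Away a) (Q := Localization.Away (α a)) (g := α)
          (show Submonoid.powers a ≤ (Submonoid.powers (α a)).comap α by
            rintro y ⟨n, rfl⟩; exact ⟨n, (map_pow α a n).symm⟩) x).symm)
  haveI : IsLocalization (Algebra.algebraMapSubmonoid A (Submonoid.powers a))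
      (Localization.Away (α a)) := by
    rw [Algebra.algebraMapSubmonoid_powers]
    exact (inferInstance : IsLocalization (Submonoid.powers (α a)) (Localization.Away (α a)))
  haveI : Algebra.IsPushout P (Localization.Away a) A (Localization.Away (α a)) :=
    (Algebra.isPushout_of_isLocalization (R := P) (A := Localization.Away a) (T := A)
      (B := Localization.Away (α a)) (Submonoid.powers a)).symm
  exact isPush_of_isPushout

variable {R : Type u} [CommRing R] [Algebra R A]

/-- The localized complex through the localized presentation. -/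
theorem isRel_away_iff {σ : Type} [Finite σ] (α : MvPolynomial σ R →ₐ[R] A)
    (hα : Function.Surjective α) (g : MvPolynomial σ R) (K : DRing.Cx A) (m : ℤ) :
    DerCA.IsRelPseudoCoherent R (Localization.Away (α.toRingHom g)) m
        (DRing.toD (((ModuleCat.extendScalars
          (algebraMap A (Localization.Away (α.toRingHom g)))).mapHomologicalComplex (ComplexShape.up ℤ)).obj K)) ↔
      DRing.IsPseudoCoherent (Localization.Away g) m (DerivedCategory.Q.obj
        ((DRingLib.extCx (algebraMap (MvPolynomial σ R) (Localization.Away g))).obj
          (((ModuleCat.restrictScalars.{u} α.toRingHom).mapHomologicalComplex (ComplexShape.up ℤ)).obj K))) := by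
  let e := MvPolynomial.optionEquivLeft R σ
  let f := ((Localization.awayMap α.toRingHom g).comp (awayPres g)).comp e.toRingEquiv.toRingHom
  have hc : ∀ r : R, f (algebraMap R _ r) = algebraMap R (Localization.Away (α.toRingHom g)) r := by
    intro r
    change Localization.awayMap α.toRingHom g (awayPres g (e (algebraMap R _ r))) = _
    rw [e.commutes, IsScalarTower.algebraMap_apply R (MvPolynomial σ R) (Polynomial (MvPolynomial σ R)),
      Polynomial.algebraMap_eq, awayPres_C]
    refine (IsLocalization.map_eq _ _).trans ?_
    rw [IsScalarTower.algebraMap_apply R A (Localization.Away (α.toRingHom g))]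
    exact congrArg _ (α.commutes r)
  let β : MvPolynomial (Option σ) R →ₐ[R] Localization.Away (α.toRingHom g) :=
    { f with commutes' := hc }
  have hβ : Function.Surjective β :=
    ((awayMap_surjective hα g).comp (awayPres_surjective g)).comp e.surjective
  rw [isRel_iff β hβ]
  have e1 : β.toRingHom = f := rfl
  have h1 := pv_comp (ph_of_bijective _ e.bijective) ((Localization.awayMap α.toRingHom g).comp (awayPres g)) m
  have h2 := pv_comp (ph_awayPres g) (Localization.awayMap α.toRingHom g) m
  rw [e1]
  refine ((h1 _).trans (h2 _)).trans ?_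
  obtain ⟨i⟩ := nonempty_sqIsoD (isPush_away α.toRingHom g) K
  exact ⟨fun h => DRingLib.isPseudoCoherent_of_iso i.symm h,
    fun h => DRingLib.isPseudoCoherent_of_iso i h⟩

/-- Localization preserves relative pseudo-coherence. -/
theorem isRel_away_of [Algebra.FiniteType R A] (g : A) (K : DRing.Cx A) (m : ℤ)
    (h : DerCA.IsRelPseudoCoherent R A m (DRing.toD K)) :
    DerCA.IsRelPseudoCoherent R (Localization.Away g) m (DRing.toD
      (((ModuleCat.extendScalars (algebraMap A (Localization.Away g))).mapHomologicalComplex
        (ComplexShape.up ℤ)).obj K)) := by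
  obtain ⟨n, α, hα⟩ := exists_pres R A
  obtain ⟨p, rfl⟩ := hα g
  refine (isRel_away_iff α hα p K m).2 (DRingLib.isPseudoCoherent_extCx _
    (RingHom.flat_algebraMap_iff.2 (IsLocalization.flat _ (Submonoid.powers p))) ?_)
  exact DRingLib.isPseudoCoherent_of_iso
    ((ModuleCat.restrictScalars.{u} α.toRingHom).mapDerivedCategoryFactors.app K)
    ((isRel_iff α hα _ m).1 h)

/-- Relative pseudo-coherence is Zariski local. -/
theorem isRel_of_away [Algebra.FiniteType R A] (K : DRing.Cx A) (m : ℤ) {r : ℕ} (f : Fin r → A)
    (hf : Ideal.span (Set.range f) = ⊤)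
    (h : ∀ i, DerCA.IsRelPseudoCoherent R (Localization.Away (f i)) m (DRing.toD
      (((ModuleCat.extendScalars (algebraMap A (Localization.Away (f i)))).mapHomologicalComplex
        (ComplexShape.up ℤ)).obj K))) :
    DerCA.IsRelPseudoCoherent R A m (DRing.toD K) := by
  obtain ⟨n, α, hα⟩ := exists_pres R A
  choose p hp using fun i => hα (f i)
  obtain ⟨c, hc⟩ := (Ideal.mem_span_range_iff_exists_fun).1
    (show (1 : A) ∈ Ideal.span (Set.range f) from hf ▸ Submodule.mem_top)
  choose c' hc' using fun i => hα (c i)
  let q : Fin (r + 1) → MvPolynomial (Fin n) R := Fin.cons (1 - ∑ i, c' i * p i) p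
  have hq : Ideal.span (Set.range q) = ⊤ := by
    refine Ideal.eq_top_of_isUnit_mem _ ?_ isUnit_one
    have : (1 : MvPolynomial (Fin n) R) = q 0 + ∑ i, c' i * q i.succ := by simp [q]
    rw [this]
    exact Ideal.add_mem _ (Ideal.subset_span ⟨0, rfl⟩)
      (Ideal.sum_mem _ fun i _ => Ideal.mul_mem_left _ _ (Ideal.subset_span ⟨i.succ, rfl⟩))
  let Kα := ((ModuleCat.restrictScalars.{u} α.toRingHom).mapHomologicalComplex (ComplexShape.up ℤ)).obj K
  refine (isRel_iff α hα _ m).2 (DRingLib.isPseudoCoherent_of_iso
    ((ModuleCat.restrictScalars.{u} α.toRingHom).mapDerivedCategoryFactors.app K).symm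
    (DRingLib.isPseudoCoherent_of_family (DRingLib.detectsZero_away q hq) Kα m fun i => ?_))
  refine Fin.cases ?_ (fun i => ?_) i
  rotate_left
  · have hi := h i
    rw [← hp i] at hi
    generalize hu : q i.succ = u
    obtain rfl : u = p i := hu.symm.trans (Fin.cons_succ ..)
    exact (isRel_away_iff α hα (p i) K m).1 hi
  ·
    have h0 : α (q 0) = 0 := by simp [q, map_sum, hp, hc', hc]
    have hz : ∀ j, IsZero (((DRingLib.extCx (algebraMap (MvPolynomial (Fin n) R)
        (Localization.Away (q 0)))).obj Kα).X j) := fun j => by
      have hs : Subsingleton (Localization.Away (q 0) ⊗[MvPolynomial (Fin n) R]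
          (Kα.X j : Type u)) := by
        refine subsingleton_of_forall_eq 0 fun x => ?_
        obtain ⟨u, hu⟩ := IsLocalization.Away.algebraMap_isUnit (S := Localization.Away (q 0)) (q 0)
        induction x with
        | zero => rfl
        | add x y hx hy => rw [hx, hy, add_zero]
        | tmul s y =>
          have hy : q 0 • y = 0 := by
            change α (q 0) • (show (K.X j : Type u) from y) = 0
            rw [h0, zero_smul]
          have hs' : s = q 0 • ((↑u⁻¹ : Localization.Away (q 0)) * s) := by
            rw [Algebra.smul_def, ← hu, Units.mul_inv_cancel_left]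
          rw [hs', TensorProduct.smul_tmul, hy, TensorProduct.tmul_zero]
      exact @ModuleCat.isZero_of_subsingleton _ _ _
        (((DRingLib.extendScalarsEquiv (Kα.X j)).toEquiv.subsingleton_congr).2 hs)
    exact DRingLib.isPseudoCoherent_of_isZero fun j _ =>
      DRingLib.isZero_Hn_Q _ j (hz j)

end Groth.Agent.RelPCLib
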