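import Groth.Agent.RelPCLib.Indep
import Groth.Agent.RelPCLib.Local
import Groth.Agent.RelPCLib.BaseChange

/-!
# Derived base change and relative pseudo-coherence
-/

set_option autoImplicit false
set_option linter.style.haveILetI false

universe u

open CategoryTheory CategoryTheory.Limits
open scoped TensorProduct

attribute [local instance] HasDerivedCategory.standard

namespace Groth.Agent.RelPCLib

/-- Base change of a relatively pseudo-coherent object, computed on a free representative. -/
theorem exists_rep_isRel {R A B : Type u} [CommRing R] [CommRing A] [CommRing B]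
    [Algebra R A] [Algebra A B] [Algebra R B] [IsScalarTower R A B] [Algebra.FiniteType R A]
    [Algebra.FiniteType A B] (hB : DerCA.IsRelPseudoCoherentModuleAll A B B) (K : Dual.D A) (m : ℤ)
    (h : DerCA.IsRelPseudoCoherent R A m K) :
    ∃ G : DRing.Cx A, DRing.IsKFlat A G ∧ Nonempty (DerivedCategory.Q.obj G ≅ K) ∧
      DerCA.IsRelPseudoCoherent R B m
        (DerivedCategory.Q.obj ((DRingLib.extCx (algebraMap A B)).obj G)) := by
  obtain ⟨n, α, hα⟩ := exists_pres R A
  obtain ⟨k, β, hβ⟩ := exists_pres A B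
  have hph : PH β.toRingHom := fun i => (isRel_iff β hβ _ i).1 (hB i)
  have hK : PV α.toRingHom m K := (isRel_iff α hα K m).1 h
  obtain ⟨b, hb⟩ := exists_bound_of_pc hK
  obtain ⟨G, hGb, hGf, ⟨eG⟩⟩ := DRingLib.exists_free_rep K b fun i hi => by
    have : Subsingleton ((DRingLib.Hn A i).obj K) := (isZero_restrict_iff _ K i).1 (hb i hi)
    exact ModuleCat.isZero_of_subsingleton _
  refine ⟨G, DRingLib.isKFlat_of_free G b hGb hGf, ⟨eG⟩, ?_⟩
  letI : Algebra (MvPolynomial (Fin n) R) A := α.toRingHom.toAlgebra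
  letI : Algebra (MvPolynomial (Fin k) (MvPolynomial (Fin n) R)) (MvPolynomial (Fin k) A) :=
    MvPolynomial.algebraMvPolynomial
  haveI : IsScalarTower (MvPolynomial (Fin n) R) (MvPolynomial (Fin k) (MvPolynomial (Fin n) R))
      (MvPolynomial (Fin k) A) :=
    IsScalarTower.of_algebraMap_eq fun r => (MvPolynomial.map_C _ r).symm
  haveI : Algebra.IsPushout (MvPolynomial (Fin n) R) (MvPolynomial (Fin k) (MvPolynomial (Fin n) R)) A
      (MvPolynomial (Fin k) A) := inferInstance
  let ψ := algebraMap (MvPolynomial (Fin k) (MvPolynomial (Fin n) R)) (MvPolynomial (Fin k) A)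
  let G₁ := (DRingLib.extCx (algebraMap A (MvPolynomial (Fin k) A))).obj G
  have h1 : PV ψ m (DRing.toD G₁) := by
    obtain ⟨i⟩ := nonempty_sqIsoD (isPush_of_isPushout (P := MvPolynomial (Fin n) R)
      (P' := MvPolynomial (Fin k) (MvPolynomial (Fin n) R)) (A := A)
      (A' := MvPolynomial (Fin k) A)) G
    refine DRingLib.isPseudoCoherent_of_iso i (DRingLib.isPseudoCoherent_extCx _
      (RingHom.flat_algebraMap_iff.2 inferInstance) ?_)
    exact DRingLib.isPseudoCoherent_of_iso
      ((ModuleCat.restrictScalars.{u} α.toRingHom).mapDerivedCategoryFactors.app G)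
      (hK.of_iso eG.symm)
  have h2 := pv_extCx ψ β.toRingHom hph G₁
    (fun i => DRingLib.flat_extCx _ i (haveI := hGf i; inferInstance)) b
    (fun i hi => (ModuleCat.extendScalars.{u, u, u} _).map_isZero (hGb i hi)) m h1
  let e := MvPolynomial.sumAlgEquiv R (Fin k) (Fin n)
  let β' : MvPolynomial (Fin k ⊕ Fin n) R →ₐ[R] B :=
    (β.restrictScalars R).comp ((MvPolynomial.mapAlgHom α).comp e.toAlgHom)
  have hβ' : Function.Surjective β' :=
    hβ.comp ((MvPolynomial.map_surjective α.toRingHom hα).comp e.surjective)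
  rw [isRel_iff β' hβ']
  have e1 : β'.toRingHom = (β.toRingHom.comp ψ).comp e.toRingEquiv.toRingHom := rfl
  rw [e1, pv_comp (ph_of_bijective _ e.bijective)]
  refine PV.of_iso (DerivedCategory.Q.mapIso ?_) h2
  have hc : β.toRingHom.comp (algebraMap A (MvPolynomial (Fin k) A)) = algebraMap A B := β.comp_algebraMap
  let c := eqToIso (congrArg ModuleCat.extendScalars.{u, u, u} hc.symm) ≪≫
    ModuleCat.extendScalarsComp (algebraMap A (MvPolynomial (Fin k) A)) β.toRingHom
  exact (HomologicalComplex.Hom.isoOfComponents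
    (C₁ := (DRingLib.extCx (algebraMap A B)).obj G) (C₂ := (DRingLib.extCx β.toRingHom).obj G₁)
    (fun i => c.app (G.X i)) fun i j _ => (c.hom.naturality (G.d i j)).symm).symm

/-- Derived base change preserves relative pseudo-coherence. -/
theorem isRel_lBaseChange {R A B : Type u} [CommRing R] [CommRing A] [CommRing B]
    [Algebra R A] [Algebra A B] [Algebra R B] [IsScalarTower R A B] [Algebra.FiniteType R A]
    [Algebra.FiniteType A B] (hB : DerCA.IsRelPseudoCoherentModuleAll A B B)
    [DRing.HasLBaseChange (algebraMap A B)] (K : Dual.D A) (m : ℤ)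
    (h : DerCA.IsRelPseudoCoherent R A m K) :
    DerCA.IsRelPseudoCoherent R B m ((DRing.LBaseChange (algebraMap A B)).obj K) := by
  obtain ⟨G, hG, ⟨eG⟩, hr⟩ := exists_rep_isRel hB K m h
  obtain ⟨k, β, hβ, hv⟩ := hr
  exact ⟨k, β, hβ, PV.of_iso ((DRingLib.lBaseChangeObjIso (algebraMap A B) G hG).symm ≪≫
    (DRing.LBaseChange (algebraMap A B)).mapIso eG) hv⟩

/-- Flat base change of relatively pseudo-coherent modules. -/
theorem isRel_flat {R A B : Type u} [CommRing R] [CommRing A] [CommRing B]
    [Algebra R A] [Algebra A B] [Algebra R B] [IsScalarTower R A B] [Algebra.FiniteType R A]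
    [Algebra.FiniteType A B] [Module.Flat A B] (hB : DerCA.IsRelPseudoCoherentModuleAll A B B)
    (M : Type u) [AddCommGroup M] [Module A M] (m : ℤ)
    (h : DerCA.IsRelPseudoCoherentModule R A m M) :
    DerCA.IsRelPseudoCoherentModule R B m (B ⊗[A] M) := by
  obtain ⟨G, hG, ⟨eG⟩, k, β, hβ, hv⟩ := exists_rep_isRel hB (Dual.inD A M) m h
  obtain ⟨e⟩ := DRingLib.nonempty_extCx_iso (algebraMap A B) (RingHom.flat_algebraMap_iff.2 inferInstance)
    (eG ≪≫ (DerivedCategory.singleFunctorIsoCompQ (ModuleCat.{u} A) 0).app (ModuleCat.of A M))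
  exact ⟨k, β, hβ, PV.of_iso (e ≪≫ DRingLib.extCxSingleIso M) hv⟩

end Groth.Agent.RelPCLib
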