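import Groth.Prelude.Def_DerCA
import Groth.Agent.TwoTermLib.Restr
import Groth.Agent.DRingLib.FlatBC
import Groth.Agent.DRingLib.AmplitudeBC
import Groth.Agent.DRingLib.PCohDevissage

/-!
# Pseudo-coherence seen through a ring map
-/

set_option autoImplicit false
set_option linter.style.haveILetI false

universe u

open CategoryTheory CategoryTheory.Limits HomologicalComplex
open scoped TensorProduct

attribute [local instance] HasDerivedCategory.standard

namespace Groth.Agent.RelPCLib

variable {P Q A : Type u} [CommRing P] [CommRing Q] [CommRing A]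

/-- `K` is `m`-pseudo-coherent through `φ`. -/
def PV (φ : P →+* A) (m : ℤ) (K : Dual.D A) : Prop :=
  DRing.IsPseudoCoherent P m ((DRing.restrictD φ).obj K)

/-- The ring map is pseudo-coherent as a module map. -/
def PH (π : P →+* Q) : Prop := ∀ n : ℤ, PV π n (Dual.inD Q Q)

theorem PV.of_iso {φ : P →+* A} {m : ℤ} {K L : Dual.D A} (e : K ≅ L) (h : PV φ m K) : PV φ m L :=
  DRingLib.isPseudoCoherent_of_iso ((DRing.restrictD φ).mapIso e) h

theorem PV.mono {φ : P →+* A} {m m' : ℤ} (hm : m ≤ m') {K : Dual.D A} (h : PV φ m K) : PV φ m' K :=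
  DRingLib.isPseudoCoherent_mono hm h

/-- Restriction of scalars along a composite. -/
theorem nonempty_restrictD_comp (π : P →+* Q) (ψ : Q →+* A) (K : Dual.D A) :
    Nonempty ((DRing.restrictD π).obj ((DRing.restrictD ψ).obj K) ≅
      (DRing.restrictD (ψ.comp π)).obj K) := by
  obtain ⟨e⟩ : Nonempty (DerivedCategory.Q.obj (DerivedCategory.Q.objPreimage K) ≅ K) :=
    ⟨DerivedCategory.Q.objObjPreimageIso K⟩
  let C := DerivedCategory.Q.objPreimage K
  let c : ((ModuleCat.restrictScalars.{u} π).mapHomologicalComplex (ComplexShape.up ℤ)).obj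
      (((ModuleCat.restrictScalars.{u} ψ).mapHomologicalComplex (ComplexShape.up ℤ)).obj C) ≅
      ((ModuleCat.restrictScalars.{u} (ψ.comp π)).mapHomologicalComplex (ComplexShape.up ℤ)).obj C :=
    HomologicalComplex.Hom.isoOfComponents
      (fun n => ((ModuleCat.restrictScalarsComp.{u} π ψ).app (C.X n)).symm) fun i j _ => rfl
  exact ⟨(DRing.restrictD π).mapIso ((DRing.restrictD ψ).mapIso e.symm ≪≫
      (ModuleCat.restrictScalars.{u} ψ).mapDerivedCategoryFactors.app C) ≪≫
    (ModuleCat.restrictScalars.{u} π).mapDerivedCategoryFactors.app _ ≪≫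
    DerivedCategory.Q.mapIso c ≪≫
    ((ModuleCat.restrictScalars.{u} (ψ.comp π)).mapDerivedCategoryFactors.app C).symm ≪≫
    (DRing.restrictD (ψ.comp π)).mapIso e⟩

/-- Restriction of a module in degree zero. -/
noncomputable def restrictInD (π : P →+* Q) (M : ModuleCat.{u} Q) :
    (DRing.restrictD π).obj ((DerivedCategory.singleFunctor (ModuleCat.{u} Q) 0).obj M) ≅
      (DerivedCategory.singleFunctor (ModuleCat.{u} P) 0).obj ((ModuleCat.restrictScalars.{u} π).obj M) :=
  ((ModuleCat.restrictScalars.{u} π).mapDerivedCategorySingleFunctor 0).app M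

theorem isPCModule_of_ph [Algebra P Q] (h : PH (algebraMap P Q)) :
    DRing.IsPseudoCoherentModule' P Q :=
  DRingLib.isPseudoCoherent'_iff_forall.2 fun n =>
    DRingLib.isPseudoCoherent_of_iso
      (restrictInD (algebraMap P Q) (ModuleCat.of Q Q) ≪≫
        (DerivedCategory.singleFunctor (ModuleCat.{u} P) 0).mapIso
          (LinearEquiv.toModuleIso ({ AddEquiv.refl Q with map_smul' := fun r x => Algebra.smul_def r x } :
            Q ≃ₗ[P] ((ModuleCat.restrictScalars.{u} (algebraMap P Q)).obj (ModuleCat.of Q Q)))).symm) (h n)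

theorem ph_of_isPCModule [Algebra P Q] (h : ∀ n, DRing.IsPseudoCoherentModule P n Q) :
    PH (algebraMap P Q) := fun n =>
  DRingLib.isPseudoCoherent_of_iso
    ((DerivedCategory.singleFunctor (ModuleCat.{u} P) 0).mapIso
        (LinearEquiv.toModuleIso ({ AddEquiv.refl Q with map_smul' := fun r x => Algebra.smul_def r x } :
          Q ≃ₗ[P] ((ModuleCat.restrictScalars.{u} (algebraMap P Q)).obj (ModuleCat.of Q Q)))) ≪≫
      (restrictInD (algebraMap P Q) (ModuleCat.of Q Q)).symm) (h n)

/-- Pseudo-coherent ring maps can be cancelled. -/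
theorem pv_comp {π : P →+* Q} (hπ : PH π) (ψ : Q →+* A) (m : ℤ) (K : Dual.D A) :
    PV (ψ.comp π) m K ↔ PV ψ m K := by
  letI : Algebra P Q := π.toAlgebra
  obtain ⟨e⟩ := nonempty_restrictD_comp π ψ K
  have h := TwoTermLib.Restr.isPseudoCoherent_G_iff (isPCModule_of_ph (P := P) (Q := Q) hπ)
    ((DRing.restrictD ψ).obj K) m
  exact ⟨fun hK => h.2 (DRingLib.isPseudoCoherent_of_iso e.symm hK),
    fun hK => DRingLib.isPseudoCoherent_of_iso e (h.1 hK)⟩

/-- Restriction along a pseudo-coherent map. -/
theorem pv_iff {π : P →+* Q} (hπ : PH π) (m : ℤ) (K : Dual.D Q) :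
    PV π m K ↔ DRing.IsPseudoCoherent Q m K := by
  letI : Algebra P Q := π.toAlgebra
  exact (TwoTermLib.Restr.isPseudoCoherent_G_iff (isPCModule_of_ph (P := P) (Q := Q) hπ) K m).symm

theorem PH.comp {π : P →+* Q} (hπ : PH π) {ψ : Q →+* A} (hψ : PH ψ) : PH (ψ.comp π) := fun n =>
  (pv_comp hπ ψ n _).2 (hψ n)

theorem isPC_free (M : Type u) [AddCommGroup M] [Module P M] [Module.Finite P M] [Module.Free P M]
    (n : ℤ) : DRing.IsPseudoCoherentModule P n M :=
  DRingLib.isPseudoCoherent_of_iso
    ((DerivedCategory.singleFunctorIsoCompQ (ModuleCat.{u} P) 0).app (ModuleCat.of P M)).symm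
    (DRingLib.isPseudoCoherent_bddFree
      (E := (HomologicalComplex.single (ModuleCat.{u} P) (ComplexShape.up ℤ) 0).obj (ModuleCat.of P M))
      ⟨0, 0, fun i hi => HomologicalComplex.isZero_single_obj_X _ _ _ _ (by omega), fun i => by
        by_cases hi : i = 0
        · subst hi
          exact ⟨Module.Finite.equiv
              (HomologicalComplex.singleObjXSelf (ComplexShape.up ℤ) 0 _).toLinearEquiv.symm,
            Module.Free.of_equiv
              (HomologicalComplex.singleObjXSelf (ComplexShape.up ℤ) 0 _).toLinearEquiv.symm⟩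
        · exact ⟨DRingLib.finite_of_isZero (HomologicalComplex.isZero_single_obj_X _ _ _ _ hi),
            DRingLib.free_of_isZero (HomologicalComplex.isZero_single_obj_X _ _ _ _ hi)⟩⟩ n)

/-- Finite free algebras. -/
theorem ph_of_finite_free [Algebra P Q] [Module.Finite P Q] [Module.Free P Q] :
    PH (algebraMap P Q) :=
  ph_of_isPCModule fun n => isPC_free Q n

theorem ph_of_bijective (π : P →+* Q) (h : Function.Bijective π) : PH π := by
  letI : Algebra P Q := π.toAlgebra
  let e : P ≃ₗ[P] Q := LinearEquiv.ofBijective (Algebra.linearMap P Q) h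
  haveI : Module.Finite P Q := Module.Finite.equiv e
  haveI : Module.Free P Q := Module.Free.of_equiv e
  exact ph_of_finite_free (P := P) (Q := Q)

/-- Quotient by a regular element. -/
theorem ph_of_principal (π : P →+* Q) (hπ : Function.Surjective π) (f : P)
    (hf : IsSMulRegular P f) (hker : RingHom.ker π = Ideal.span {f}) : PH π := by
  letI : Algebra P Q := π.toAlgebra
  let X' : ModuleCat.{u} P := ModuleCat.of P P
  let a : X' ⟶ X' := ModuleCat.ofHom (LinearMap.mul P P f)
  let g : X' ⟶ ModuleCat.of P Q := ModuleCat.ofHom (Algebra.linearMap P Q)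
  let S : ShortComplex (ModuleCat.{u} P) := ShortComplex.mk a g (by
    apply ModuleCat.hom_ext
    refine LinearMap.ext fun p => ?_
    have : f * p ∈ RingHom.ker π := hker ▸ Ideal.mul_mem_right _ _ (Ideal.subset_span rfl)
    exact this)
  have hS : S.ShortExact := by
    refine { exact := ?_, mono_f := ?_, epi_g := ?_ }
    · rw [ShortComplex.moduleCat_exact_iff]
      intro p (hp : π p = 0)
      have hp' : p ∈ Ideal.span {f} := hker ▸ (RingHom.mem_ker.2 hp)
      obtain ⟨q, rfl⟩ := Ideal.mem_span_singleton'.1 hp'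
      exact ⟨q, mul_comm f q⟩
    · exact (ModuleCat.mono_iff_injective a).2 fun p q h => hf h
    · exact (ModuleCat.epi_iff_surjective g).2 hπ
  refine ph_of_isPCModule (P := P) (Q := Q) fun n => ?_
  exact DRingLib.isPseudoCoherent_obj₃ _ hS.singleTriangle_distinguished n
    (isPC_free P _) (isPC_free P _)

theorem ph_eval (a : P) : PH (Polynomial.evalRingHom a) := by
  refine ph_of_principal _ (fun r => ⟨Polynomial.C r, Polynomial.eval_C⟩) (Polynomial.X - Polynomial.C a)
    (Polynomial.monic_X_sub_C a).isRegular.left ?_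
  ext p
  rw [RingHom.mem_ker, Ideal.mem_span_singleton, Polynomial.dvd_iff_isRoot]
  rfl

/-- Retractions of polynomial algebras, finite index `Fin k`. -/
theorem ph_aeval_fin : ∀ (k : ℕ) (g : Fin k → P),
    PH (MvPolynomial.aeval g : MvPolynomial (Fin k) P →ₐ[P] P).toRingHom := by
  intro k
  induction k with
  | zero =>
    intro g
    refine ph_of_bijective _ ⟨fun p q h => ?_, fun r => ⟨MvPolynomial.C r, by simp⟩⟩
    obtain ⟨p, rfl⟩ := MvPolynomial.C_surjective (Fin 0) p
    obtain ⟨q, rfl⟩ := MvPolynomial.C_surjective (Fin 0) q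
    simp at h
    rw [h]
  | succ k ih =>
    intro g
    let e := MvPolynomial.finSuccEquiv P k
    let a : MvPolynomial (Fin k) P := MvPolynomial.C (g 0)
    have h : (MvPolynomial.aeval g : MvPolynomial (Fin (k + 1)) P →ₐ[P] P).toRingHom =
        (((MvPolynomial.aeval fun i : Fin k => g i.succ : MvPolynomial (Fin k) P →ₐ[P] P).toRingHom.comp
          (Polynomial.evalRingHom a))).comp e.toRingEquiv.toRingHom := by
      refine MvPolynomial.ringHom_ext (fun r => ?_) (fun i => ?_)
      · simp [e, a, MvPolynomial.finSuccEquiv_apply]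
      · refine Fin.cases ?_ (fun i => ?_) i
        · simp [e, a, MvPolynomial.finSuccEquiv_X_zero]
        · simp [e, a, MvPolynomial.finSuccEquiv_X_succ]
    rw [h]
    exact (ph_of_bijective _ e.bijective).comp ((ph_eval a).comp (ih _))

/-- Retractions of polynomial algebras. -/
theorem ph_aeval {σ : Type} [Finite σ] (g : σ → P) :
    PH (MvPolynomial.aeval g : MvPolynomial σ P →ₐ[P] P).toRingHom := by
  obtain ⟨k, ⟨e⟩⟩ := Finite.exists_equiv_fin σ
  let r := MvPolynomial.renameEquiv P e
  have h : (MvPolynomial.aeval g : MvPolynomial σ P →ₐ[P] P).toRingHom =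
      (MvPolynomial.aeval (g ∘ e.symm) : MvPolynomial (Fin k) P →ₐ[P] P).toRingHom.comp
        r.toRingEquiv.toRingHom := by
    refine MvPolynomial.ringHom_ext (fun x => ?_) (fun i => ?_) <;> simp [r]
  rw [h]
  exact (ph_of_bijective _ r.bijective).comp (ph_aeval_fin k _)

/-- Base change along a flat pushout. -/
theorem ph_of_isPushout {P' Q' : Type u} [CommRing P'] [CommRing Q'] [Algebra P Q] [Algebra P P']
    [Algebra Q Q'] [Algebra P' Q'] [Algebra P Q'] [IsScalarTower P Q Q'] [IsScalarTower P P' Q']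
    [Algebra.IsPushout P P' Q Q'] [Module.Flat P P'] (h : PH (algebraMap P Q)) :
    PH (algebraMap P' Q') := by
  refine ph_of_isPCModule fun n => ?_
  have h1 : DRing.IsPseudoCoherentModule P n Q :=
    DRingLib.isPseudoCoherent'_iff_forall.1 (isPCModule_of_ph h) n
  have h2 := DRingLib.isPseudoCoherent_extCx (algebraMap P P')
    (RingHom.flat_algebraMap_iff.2 inferInstance)
    (K := (single (ModuleCat.{u} P) (ComplexShape.up ℤ) 0).obj (ModuleCat.of P Q))
    (DRingLib.isPseudoCoherent_of_iso
      ((DerivedCategory.singleFunctorIsoCompQ (ModuleCat.{u} P) 0).app (ModuleCat.of P Q)) h1)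
  exact DRingLib.isPseudoCoherentModule_of_equiv (Algebra.IsPushout.equiv P P' Q Q').toLinearEquiv
    (DRingLib.isPseudoCoherent_of_iso (DRingLib.extCxSingleIso Q) h2)

end Groth.Agent.RelPCLib
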