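import Groth.Agent.RelPCLib.Basic

/-!
# Independence of the presentation
-/

set_option autoImplicit false
set_option linter.style.haveILetI false

universe u

open CategoryTheory CategoryTheory.Limits

attribute [local instance] HasDerivedCategory.standard

namespace Groth.Agent.RelPCLib

variable {R A : Type u} [CommRing R] [CommRing A] [Algebra R A]

theorem ph_retract {σ τ : Type} [Finite σ] [Finite τ] (g : τ → MvPolynomial σ R) :
    PH (MvPolynomial.aeval (Sum.elim MvPolynomial.X g) :
      MvPolynomial (σ ⊕ τ) R →ₐ[R] MvPolynomial σ R).toRingHom := by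
  let e := (MvPolynomial.renameEquiv R (Equiv.sumComm σ τ)).trans (MvPolynomial.sumAlgEquiv R τ σ)
  have h : (MvPolynomial.aeval (Sum.elim MvPolynomial.X g) :
      MvPolynomial (σ ⊕ τ) R →ₐ[R] MvPolynomial σ R).toRingHom =
      (MvPolynomial.aeval g : MvPolynomial τ (MvPolynomial σ R) →ₐ[MvPolynomial σ R] _).toRingHom.comp
        e.toRingEquiv.toRingHom := by
    refine MvPolynomial.ringHom_ext (fun r => ?_) (fun i => ?_)
    · simp [e]
    · rcases i with i | i <;> simp [e]
  rw [h]
  exact (ph_of_bijective _ e.bijective).comp (ph_aeval g)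

theorem ph_retract' {σ τ : Type} [Finite σ] [Finite τ] (h : σ → MvPolynomial τ R) :
    PH (MvPolynomial.aeval (Sum.elim h MvPolynomial.X) :
      MvPolynomial (σ ⊕ τ) R →ₐ[R] MvPolynomial τ R).toRingHom := by
  let e := MvPolynomial.renameEquiv R (Equiv.sumComm σ τ)
  have he : (MvPolynomial.aeval (Sum.elim h MvPolynomial.X) :
      MvPolynomial (σ ⊕ τ) R →ₐ[R] MvPolynomial τ R).toRingHom =
      (MvPolynomial.aeval (Sum.elim MvPolynomial.X h) :
        MvPolynomial (τ ⊕ σ) R →ₐ[R] MvPolynomial τ R).toRingHom.comp e.toRingEquiv.toRingHom := by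
    refine MvPolynomial.ringHom_ext (fun r => ?_) (fun i => ?_)
    · simp [e]
    · rcases i with i | i <;> simp [e]
  rw [he]
  exact (ph_of_bijective _ e.bijective).comp (ph_retract h)

/-- The criterion does not depend on the presentation. -/
theorem pv_indep {σ τ : Type} [Finite σ] [Finite τ] (α : MvPolynomial σ R →ₐ[R] A)
    (hα : Function.Surjective α) (β : MvPolynomial τ R →ₐ[R] A) (hβ : Function.Surjective β)
    (K : Dual.D A) (m : ℤ) : PV α.toRingHom m K ↔ PV β.toRingHom m K := by
  choose g hg using fun j => hα (β (MvPolynomial.X j))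
  choose h hh using fun i => hβ (α (MvPolynomial.X i))
  let π : MvPolynomial (σ ⊕ τ) R →ₐ[R] MvPolynomial σ R := MvPolynomial.aeval (Sum.elim MvPolynomial.X g)
  let π' : MvPolynomial (σ ⊕ τ) R →ₐ[R] MvPolynomial τ R := MvPolynomial.aeval (Sum.elim h MvPolynomial.X)
  have hc : α.comp π = β.comp π' := by
    refine MvPolynomial.algHom_ext fun i => ?_
    rcases i with i | i <;> simp [π, π', hg, hh]
  have h1 := pv_comp (ph_retract g) α.toRingHom m K
  have h2 := pv_comp (ph_retract' h) β.toRingHom m K
  have e : α.toRingHom.comp π.toRingHom = β.toRingHom.comp π'.toRingHom :=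
    congrArg AlgHom.toRingHom hc
  rw [← h1, ← h2, e]

/-- Any surjection from a polynomial algebra tests relative pseudo-coherence. -/
theorem isRel_iff {σ : Type} [Finite σ] (α : MvPolynomial σ R →ₐ[R] A) (hα : Function.Surjective α)
    (K : Dual.D A) (m : ℤ) : DerCA.IsRelPseudoCoherent R A m K ↔ PV α.toRingHom m K := by
  constructor
  · rintro ⟨n, β, hβ, h⟩
    exact (pv_indep β hβ α hα K m).1 h
  · intro h
    obtain ⟨k, ⟨e⟩⟩ := Finite.exists_equiv_fin σ
    let r := MvPolynomial.renameEquiv R e.symm
    have hs : Function.Surjective (α.comp r.toAlgHom) := fun a => by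
      obtain ⟨p, rfl⟩ := hα a
      exact ⟨r.symm p, by simp⟩
    exact ⟨k, α.comp r.toAlgHom, hs, (pv_indep α hα _ hs K m).1 h⟩

theorem exists_pres (R A : Type u) [CommRing R] [CommRing A] [Algebra R A] [Algebra.FiniteType R A] :
    ∃ (n : ℕ) (α : MvPolynomial (Fin n) R →ₐ[R] A), Function.Surjective α :=
  Algebra.FiniteType.iff_quotient_mvPolynomial''.1 inferInstance

end Groth.Agent.RelPCLib
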